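import Cfsg.Agent.MaxSub.OrthVectorGL
import Cfsg.Agent.Forms59.Elliptic2

/-!
Maximality in `Ω` of the stabilisers of non-degenerate subspaces, one of whose sides only needs to
contain a totally singular plane (helper50, after helper24's `MaxSub/OrthStab`).
-/

set_option autoImplicit false
set_option linter.unusedSectionVars false

namespace Cfsg.Agent.Omega8Minus50

open QuadraticMap Cfsg.Agent.UnitaryOrthogonal Cfsg.Agent.OrthStab

variable {F : Type*} [Field F] [Finite F] {V : Type*} [AddCommGroup V] [Module F V]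
variable [FiniteDimensional F V] {Q : QuadraticForm F V} {W₁ W₂ : Submodule F V}

/-- The subspace contains a totally singular plane. -/
def HasLine (Q : QuadraticForm F V) (W : Submodule F V) : Prop :=
  ∃ U : Submodule F V, U ≤ W ∧ (∀ x ∈ U, Q x = 0) ∧ Module.finrank F U = 2

/-- A totally singular plane in general position has a singular neighbour on one of the sides. -/
def MixCond (Q : QuadraticForm F V) (W₁ W₂ : Submodule F V) : Prop :=
  ∀ a₁ ∈ W₁, ∀ b₁ ∈ W₁, ∀ a₂ ∈ W₂, ∀ b₂ ∈ W₂,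
    (∀ r t : F, r • a₁ + t • b₁ = 0 → r = 0 ∧ t = 0) →
    (∀ r t : F, r • a₂ + t • b₂ = 0 → r = 0 ∧ t = 0) →
    Q (a₁ + a₂) = 0 → Q (b₁ + b₂) = 0 → polar Q (a₁ + a₂) (b₁ + b₂) = 0 →
    ∃ u, (u ∈ W₁ ∨ u ∈ W₂) ∧ u ≠ 0 ∧ Q u = 0 ∧ polar Q u (a₁ + a₂) = 0 ∧
      polar Q u (b₁ + b₂) = 0

/-- A singular vector of the subspace orthogonal to a vector and off its line. -/
theorem exists_perp_sing (hU : HasLine Q W₁) (a : V) :
    ∃ b ∈ W₁, Q b = 0 ∧ polar Q a b = 0 ∧ ∀ r : F, b ≠ r • a := by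
  obtain ⟨U, hUW, hUQ, hU2⟩ := hU
  have hX : 1 ≤ Module.finrank F ↥(U ⊓ LinearMap.ker (polarBilin Q a)) := by
    have e1 := Submodule.finrank_sup_add_finrank_inf_eq U (LinearMap.ker (polarBilin Q a))
    have e2 := LinearMap.finrank_range_add_finrank_ker (polarBilin Q a)
    have e3 := Submodule.finrank_le (LinearMap.range (polarBilin Q a))
    have e4 := Submodule.finrank_le (U ⊔ LinearMap.ker (polarBilin Q a))
    rw [Module.finrank_self] at e3
    omega
  obtain ⟨x, ⟨hxU, hxa⟩, hx0⟩ := Submodule.exists_mem_ne_zero_of_ne_bot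
    (p := U ⊓ LinearMap.ker (polarBilin Q a)) (fun h => by rw [h, finrank_bot] at hX; omega)
  by_cases hxn : ∀ r : F, x ≠ r • a
  · exact ⟨x, hUW hxU, hUQ x hxU, hxa, hxn⟩
  simp only [not_forall, not_not] at hxn
  obtain ⟨r, rfl⟩ := hxn
  have hr : r ≠ 0 := fun h => hx0 (by rw [h, zero_smul])
  have haU : a ∈ U := (Submodule.smul_mem_iff U hr).mp hxU
  obtain ⟨y, hy, hyn⟩ := SetLike.not_le_iff_exists.mp (show ¬ U ≤ Submodule.span F {a} from
    fun h => by
      have e1 := Submodule.finrank_mono h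
      have e2 : Module.finrank F (Submodule.span F {a}) ≤ 1 :=
        finrank_span_le_card {a} |>.trans (by simp)
      omega)
  refine ⟨y, hUW hy, hUQ y hy, ?_, fun t ht => hyn (Submodule.mem_span_singleton.mpr ⟨t, ht.symm⟩)⟩
  have h1 := form_add (Q := Q) a y
  rw [hUQ _ (add_mem haU hy), hUQ a haU, hUQ y hy, zero_add, zero_add] at h1
  exact h1.symm

/-- A common singular neighbour of two non-orthogonal singular vectors. -/
theorem exists_common (hU : HasLine Q W₁) {a a' : V} (ha : a ∈ W₁) (haQ : Q a = 0)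
    (hne : polar Q a a' ≠ 0) :
    ∃ b ∈ W₁, Q b = 0 ∧ polar Q a b = 0 ∧ polar Q a' b = 0 ∧ (∀ r : F, b ≠ r • a) ∧
      ∀ r : F, b ≠ r • a' := by
  obtain ⟨c, hc, hcQ, hac, hcn⟩ := exists_perp_sing hU a
  obtain ⟨s, hs⟩ : ∃ s, s = polar Q a' c / polar Q a a' := ⟨_, rfl⟩
  have hab : polar Q a (c - s • a) = 0 := by
    rw [polar_sub_right, hac, polar_smul_right, polar_self_eq, haQ]; simp
  refine ⟨c - s • a, sub_mem hc (W₁.smul_mem _ ha), ?_, hab, ?_, fun r h => hcn (r + s) ?_,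
    fun r h => ?_⟩
  · rw [sub_eq_add_neg, form_add, QuadraticMap.map_neg, form_smul, haQ, hcQ, polar_neg_right,
      polar_smul_right, polar_comm Q c a, hac]
    simp
  · rw [polar_sub_right, polar_smul_right, polar_comm Q a' a, smul_eq_mul, hs,
      div_mul_cancel₀ _ hne, sub_self]
  · rw [add_smul, ← h, sub_add_cancel]
  · rw [h, polar_smul_right, smul_eq_mul] at hab
    have hr : r = 0 := (mul_eq_zero.mp hab).resolve_right hne
    rw [hr, zero_smul, sub_eq_zero] at h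
    exact hcn s h

section Big

variable (h : IsOrthPair Q W₁ W₂) (hU : HasLine Q W₁) (h5 : 5 ≤ Module.finrank F V)
include h hU

/-- Singular vectors span `W₁`. -/
theorem le_of_singular_mem {S : Submodule F V} (hS : ∀ x ∈ W₁, Q x = 0 → x ∈ S) : W₁ ≤ S := by
  obtain ⟨e, he, heQ, -, hen⟩ := exists_perp_sing hU 0
  have he0 : e ≠ 0 := fun h0 => hen 0 (by rw [h0, smul_zero])
  obtain ⟨f, hf, hfe, -⟩ := h.exists_dual (S := ⊥) he (by simpa using he0)
  have step : ∀ x ∈ W₁, polar Q x e ≠ 0 → x ∈ S := by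
    intro x hx hne
    set t := -(Q x) / polar Q x e
    have h1 : x + t • e ∈ S := hS _ (add_mem hx (W₁.smul_mem _ he)) (by
      rw [form_add, form_smul, heQ, polar_smul_right, smul_eq_mul, mul_zero, add_zero,
        div_mul_cancel₀ _ hne, add_neg_cancel])
    simpa using sub_mem h1 (S.smul_mem t (hS e he heQ))
  intro x hx
  by_cases hne : polar Q x e = 0
  · have h1 := step f hf (by rw [hfe]; exact one_ne_zero)
    have h2 := step (x + f) (add_mem hx hf) (by
      rw [polar_add_left, hne, hfe, zero_add]; exact one_ne_zero)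
    simpa using sub_mem h2 h1
  · exact step x hx hne

/-- `Ω(W₁)` inside `Ω` is transitive on the singular vectors of `W₁`. -/
theorem exists_move_singular {a d : V} (ha : a ∈ W₁) (hdW : d ∈ W₁) (ha0 : a ≠ 0) (hd0 : d ≠ 0)
    (haQ : Q a = 0) (hdQ : Q d = 0) :
    ∃ g ∈ eichGroup Q, (∀ x ∈ W₁, g.1 x ∈ W₁) ∧ (∀ y ∈ W₂, g.1 y = y) ∧ g.1 a = d := by
  have one : ∀ a ∈ W₁, ∀ d ∈ W₁, Q a = 0 → Q d = 0 → polar Q a d = 0 → a ≠ 0 →
      (∀ r : F, d ≠ r • a) →
      ∃ g ∈ eichGroup Q, (∀ x ∈ W₁, g.1 x ∈ W₁) ∧ (∀ y ∈ W₂, g.1 y = y) ∧ g.1 a = d := by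
    intro a ha d hd haQ hdQ had ha0 hn
    have hda : a ∉ Submodule.span F {d - a} := fun hm => by
      obtain ⟨r, hr⟩ := Submodule.mem_span_singleton.mp hm
      have hr0 : r ≠ 0 := fun e => ha0 (by rw [← hr, e, zero_smul])
      refine hn (r⁻¹ + 1) ?_
      have h1 : d - a = r⁻¹ • a := by
        conv_rhs => arg 2; rw [← hr]
        rw [smul_smul, inv_mul_cancel₀ hr0, one_smul]
      rw [add_smul, one_smul, ← h1, sub_add_cancel]
    obtain ⟨c, hc, hca, hcS⟩ := h.exists_dual ha hda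
    have hu : Q (d - a) = 0 := by
      rw [sub_eq_add_neg, form_add, QuadraticMap.map_neg, haQ, hdQ, polar_neg_right,
        polar_comm Q d a, had]
      simp
    have huz : polar Q (d - a) (-c) = 0 := by
      rw [polar_neg_right, polar_comm, hcS _ (sub_mem hd ha) (Submodule.mem_span_singleton_self _),
        neg_zero]
    refine ⟨eich Q (d - a) (-c), eich_mem_eichGroup _ _, fun x hx => ?_, fun y hy => ?_, ?_⟩
    · rw [eich_apply hu huz]
      exact sub_mem (sub_mem (add_mem hx (W₁.smul_mem _ (neg_mem hc)))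
        (W₁.smul_mem _ (sub_mem hd ha))) (W₁.smul_mem _ (sub_mem hd ha))
    · rw [eich_apply hu huz, h.orth _ (sub_mem hd ha) y hy, h.orth _ (neg_mem hc) y hy]
      simp
    · rw [eich_apply hu huz, polar_sub_left, polar_comm Q d a, had, polar_self_eq, haQ,
        polar_neg_left, hca]
      simp
  have two : ∀ b ∈ W₁, Q b = 0 → polar Q a b = 0 → polar Q d b = 0 → (∀ r : F, b ≠ r • a) →
      (∀ r : F, b ≠ r • d) →
      ∃ g ∈ eichGroup Q, (∀ x ∈ W₁, g.1 x ∈ W₁) ∧ (∀ y ∈ W₂, g.1 y = y) ∧ g.1 a = d := by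
    intro b hb hbQ hab hdb hba hbd
    obtain ⟨g, hg, hg1, hg2, hga⟩ := one a ha b hb haQ hbQ hab ha0 hba
    have hb0 : b ≠ 0 := fun e => hba 0 (by rw [e, zero_smul])
    obtain ⟨k, hk, hk1, hk2, hkb⟩ := one b hb d hdW hbQ hdQ (by rw [polar_comm]; exact hdb) hb0
      fun r e => by
        have hr : r ≠ 0 := fun e0 => hd0 (by rw [e, e0, zero_smul])
        exact hbd r⁻¹ (by rw [e, smul_smul, inv_mul_cancel₀ hr, one_smul])
    exact ⟨k * g, mul_mem hk hg, fun x hx => by rw [coe_mul_apply]; exact hk1 _ (hg1 x hx),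
      fun y hy => by rw [coe_mul_apply, hg2 y hy, hk2 y hy], by rw [coe_mul_apply, hga, hkb]⟩
  by_cases had : polar Q a d = 0
  · by_cases hn : ∀ r : F, d ≠ r • a
    · exact one a ha d hdW haQ hdQ had ha0 hn
    simp only [not_forall, not_not] at hn
    obtain ⟨r, rfl⟩ := hn
    obtain ⟨b, hb, hbQ, hab, hbn⟩ := exists_perp_sing hU a
    exact two b hb hbQ hab (by rw [polar_smul_left, hab, smul_zero]) hbn
      fun t e => hbn (t * r) (by rw [e, smul_smul])
  · obtain ⟨b, hb, hbQ, hab, hdb, hba, hbd⟩ := exists_common hU ha haQ had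
    exact two b hb hbQ hab hdb hba hbd

variable {M : Subgroup (orth Q)}
  (hH : ∀ g ∈ eichGroup Q, (∀ x ∈ W₁, g.1 x ∈ W₁) → g ∈ M)
include hH

omit hU in
theorem eich_mem_of_mem₁ {u z : V} (hu : u ∈ W₁) (hz : z ∈ W₁) (hQu : Q u = 0)
    (huz : polar Q u z = 0) : eich Q u z ∈ M :=
  hH _ (eich_mem_eichGroup _ _) fun x hx => by
    rw [eich_apply hQu huz]
    exact sub_mem (sub_mem (add_mem hx (W₁.smul_mem _ hz)) (W₁.smul_mem _ hu)) (W₁.smul_mem _ hu)

omit hU in
theorem eich_mem_of_mem₂ {u z : V} (hu : u ∈ W₂) (hz : z ∈ W₂) (hQu : Q u = 0)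
    (huz : polar Q u z = 0) : eich Q u z ∈ M :=
  hH _ (eich_mem_eichGroup _ _) fun x hx => by
    rw [eich_apply hQu huz, polar_comm Q u x, h.orth x hx u hu, polar_comm Q z x,
      h.orth x hx z hz]
    simpa using hx

omit h hU hH in
theorem swap_mem {p q : V} (hp : Q p = 0) (hq : Q q = 0) (hpq : polar Q p q = 0)
    (hm : eich Q p q ∈ M) : eich Q q (-p) ∈ M := by
  convert hm using 1
  refine orth_ext fun x => ?_
  rw [eich_apply hp hpq, eich_apply hq (by rw [polar_neg_right, polar_comm, hpq, neg_zero]),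
    QuadraticMap.map_neg, hp, hq, polar_neg_left]
  module

omit h hU hH in
/-- A conjugating root element shifts a long root. -/
theorem shift_mem {α β u c : V} (hα : Q α = 0) (hαβ : polar Q α β = 0) (hM : eich Q α β ∈ M)
    (hu : Q u = 0) (huc : polar Q u c = 0) (hk : eich Q u c ∈ M) (huα : polar Q u α = 0)
    (hcα : polar Q c α = 0) (huβ : polar Q u β = 0) (hcβ : polar Q c β = 1) :
    eich Q α (-u) ∈ M := by
  have hconj := mul_mem (mul_mem hk hM) (inv_mem hk)
  rw [conj_eich, eich_apply hu huc, eich_apply hu huc, huα, hcα, huβ, hcβ] at hconj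
  simp only [zero_smul, mul_zero, one_smul, add_zero, sub_zero] at hconj
  have hαu : polar Q α u = 0 := by rw [polar_comm]; exact huα
  have := mul_mem (inv_mem hM) hconj
  rwa [eich_inv hα hαβ, eich_mul hα (by rw [polar_neg_right, hαβ, neg_zero])
    (by rw [polar_sub_right, hαβ, hαu, sub_zero]),
    show -β + (β - u) = -u by abel] at this

omit hU in
theorem mixed_of_mem₁ {b v₁ v₂ : V} (hb : b ∈ W₁) (hbQ : Q b = 0) (hb0 : b ≠ 0) (hv₁ : v₁ ∈ W₁)
    (hv₂ : v₂ ∈ W₂) (hv₂0 : v₂ ≠ 0) (hbv : polar Q b (v₁ + v₂) = 0)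
    (hM : eich Q b (v₁ + v₂) ∈ M) :
    ∃ d ∈ W₁, Q d = 0 ∧ d ≠ 0 ∧ ∃ y ∈ W₂, y ≠ 0 ∧ eich Q d y ∈ M := by
  have h1 : polar Q b v₁ = 0 := by
    rwa [polar_add_right, h.orth b hb v₂ hv₂, add_zero] at hbv
  have := mul_mem hM (eich_mem_of_mem₁ h hH hb (neg_mem hv₁) hbQ
    (by rw [polar_neg_right, h1, neg_zero]))
  rw [eich_mul hbQ hbv (by rw [polar_neg_right, h1, neg_zero]),
    show v₁ + v₂ + -v₁ = v₂ by abel] at this
  exact ⟨b, hb, hbQ, hb0, v₂, hv₂, hv₂0, this⟩

theorem mixed_of_mem₂ {b v₁ v₂ : V} (hb : b ∈ W₂) (hbQ : Q b = 0) (hb0 : b ≠ 0) (hv₁ : v₁ ∈ W₁)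
    (hv₂ : v₂ ∈ W₂) (hv₁0 : v₁ ≠ 0) (hbv : polar Q b (v₁ + v₂) = 0)
    (hM : eich Q b (v₁ + v₂) ∈ M) :
    ∃ d ∈ W₁, Q d = 0 ∧ d ≠ 0 ∧ ∃ y ∈ W₂, y ≠ 0 ∧ eich Q d y ∈ M := by
  obtain ⟨u, hu, huQ, hvu, hun⟩ := exists_perp_sing hU v₁
  have hu0 : u ≠ 0 := fun e => hun 0 (by rw [e, zero_smul])
  have hvn : v₁ ∉ Submodule.span F {u} := fun hm => by
    obtain ⟨r, hr⟩ := Submodule.mem_span_singleton.mp hm
    have hr0 : r ≠ 0 := fun e => hv₁0 (by rw [← hr, e, zero_smul])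
    exact hun r⁻¹ (by rw [← hr, smul_smul, inv_mul_cancel₀ hr0, one_smul])
  obtain ⟨c, hc, hcv, hcS⟩ := h.exists_dual hv₁ hvn
  have huc : polar Q u c = 0 := by
    rw [polar_comm]; exact hcS u hu (Submodule.mem_span_singleton_self u)
  have hbu : polar Q b u = 0 := by rw [polar_comm]; exact h.orth u hu b hb
  have h2 := shift_mem hbQ hbv hM huQ huc (eich_mem_of_mem₁ h hH hu hc huQ huc)
    (h.orth u hu b hb) (h.orth c hc b hb)
    (by rw [polar_add_right, polar_comm Q u v₁, hvu, h.orth u hu v₂ hv₂, add_zero])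
    (by rw [polar_add_right, hcv, h.orth c hc v₂ hv₂, add_zero])
  exact ⟨-u, neg_mem hu, by rw [QuadraticMap.map_neg, huQ], neg_ne_zero.mpr hu0, -b, neg_mem hb,
    neg_ne_zero.mpr hb0, swap_mem hbQ (by rw [QuadraticMap.map_neg, huQ])
      (by rw [polar_neg_right, hbu, neg_zero]) h2⟩

/-- A long root off both subspaces gives an element centred in `W₁`. -/
theorem mixed_of_root (hC : MixCond Q W₁ W₂) {α β : V} (hα : Q α = 0) (hβ : Q β = 0)
    (hαβ : polar Q α β = 0) (hind : ∀ r t : F, r • α + t • β = 0 → r = 0 ∧ t = 0)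
    (hM : eich Q α β ∈ M) (h1 : ¬ (α ∈ W₁ ∧ β ∈ W₁)) (h2 : ¬ (α ∈ W₂ ∧ β ∈ W₂)) :
    ∃ d ∈ W₁, Q d = 0 ∧ d ≠ 0 ∧ ∃ y ∈ W₂, y ≠ 0 ∧ eich Q d y ∈ M := by
  obtain ⟨a₁, ha₁, a₂, ha₂, rfl⟩ := h.exists_add α
  obtain ⟨b₁, hb₁, b₂, hb₂, rfl⟩ := h.exists_add β
  have hα0 : a₁ + a₂ ≠ 0 := fun e => one_ne_zero (hind 1 0 (by rw [e]; simp)).1
  -- the shifted root with the roles exchanged
  have hshift : ∀ r : F, Q ((b₁ + b₂) - r • (a₁ + a₂)) = 0 ∧
      (b₁ + b₂) - r • (a₁ + a₂) ≠ 0 ∧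
      polar Q ((b₁ + b₂) - r • (a₁ + a₂)) (-(a₁ + a₂)) = 0 ∧
      eich Q ((b₁ + b₂) - r • (a₁ + a₂)) (-(a₁ + a₂)) ∈ M := fun r => by
    have hQ : Q ((b₁ + b₂) + -r • (a₁ + a₂)) = 0 := by
      rw [form_add, form_smul, hα, hβ, polar_smul_right, polar_comm Q (b₁ + b₂), hαβ]; simp
    have hp : polar Q (a₁ + a₂) ((b₁ + b₂) + -r • (a₁ + a₂)) = 0 := by
      rw [polar_add_right, hαβ, polar_smul_right, polar_self_eq, hα]; simp
    rw [show (b₁ + b₂) - r • (a₁ + a₂) = (b₁ + b₂) + -r • (a₁ + a₂) by module]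
    refine ⟨hQ, fun e => one_ne_zero (hind (-r) 1 (by rw [one_smul, add_comm]; exact e)).2, ?_,
      swap_mem hα hQ hp (by rwa [eich_add_smul hα hαβ])⟩
    rw [polar_neg_right, polar_comm, hp, neg_zero]
  by_cases ha₂0 : a₂ = 0
  · subst ha₂0
    exact mixed_of_mem₁ h hH (add_mem ha₁ W₁.zero_mem) hα hα0 hb₁ hb₂
      (fun e => h1 ⟨add_mem ha₁ W₁.zero_mem, by rw [e, add_zero]; exact hb₁⟩) hαβ hM
  by_cases ha₁0 : a₁ = 0
  · subst ha₁0
    exact mixed_of_mem₂ h hU hH (add_mem W₂.zero_mem ha₂) hα hα0 hb₁ hb₂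
      (fun e => h2 ⟨add_mem W₂.zero_mem ha₂, by rw [e, zero_add]; exact hb₂⟩) hαβ hM
  by_cases hdep₂ : ∃ r : F, b₂ = r • a₂
  · obtain ⟨r, hr⟩ := hdep₂
    obtain ⟨sQ, s0, sp, sM⟩ := hshift r
    have he : (b₁ + b₂) - r • (a₁ + a₂) = b₁ - r • a₁ := by rw [hr]; module
    rw [he, neg_add] at sp sM
    rw [he] at sQ s0
    exact mixed_of_mem₁ h hH (sub_mem hb₁ (W₁.smul_mem _ ha₁)) sQ s0 (neg_mem ha₁) (neg_mem ha₂)
      (neg_ne_zero.mpr ha₂0) sp sM
  by_cases hdep₁ : ∃ r : F, b₁ = r • a₁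
  · obtain ⟨r, hr⟩ := hdep₁
    obtain ⟨sQ, s0, sp, sM⟩ := hshift r
    have he : (b₁ + b₂) - r • (a₁ + a₂) = b₂ - r • a₂ := by rw [hr]; module
    rw [he, neg_add] at sp sM
    rw [he] at sQ s0
    exact mixed_of_mem₂ h hU hH (sub_mem hb₂ (W₂.smul_mem _ ha₂)) sQ s0 (neg_mem ha₁) (neg_mem ha₂)
      (neg_ne_zero.mpr ha₁0) sp sM
  simp only [not_exists] at hdep₁ hdep₂
  have indep : ∀ {a b : V}, a ≠ 0 → (∀ r : F, ¬ b = r • a) →
      ∀ r t : F, r • a + t • b = 0 → r = 0 ∧ t = 0 := by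
    intro a b ha hb r t he
    by_cases ht : t = 0
    · rw [ht, zero_smul, add_zero] at he
      exact ⟨(smul_eq_zero.mp he).resolve_right ha, ht⟩
    · refine absurd ?_ (hb (-(t⁻¹ * r)))
      have := congrArg (fun v => t⁻¹ • v) he
      simp only [smul_add, smul_smul, inv_mul_cancel₀ ht, one_smul, smul_zero] at this
      rw [neg_smul]
      exact eq_neg_of_add_eq_zero_right this
  obtain ⟨u, hside, hu0, huQ, huα, huβ⟩ :=
    hC a₁ ha₁ b₁ hb₁ a₂ ha₂ b₂ hb₂ (indep ha₁0 hdep₁) (indep ha₂0 hdep₂) hα hβ hαβ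
  -- a basis with the second component off the span of the first and `u`
  have main : ∀ {α β p₁ p₂ q₁ q₂ : V}, p₁ ∈ W₁ → p₂ ∈ W₂ → q₁ ∈ W₁ → q₂ ∈ W₂ → p₁ + p₂ = α →
      q₁ + q₂ = β → p₁ ≠ 0 → p₂ ≠ 0 → Q α = 0 → polar Q α β = 0 → eich Q α β ∈ M →
      polar Q u α = 0 → polar Q u β = 0 →
      (u ∈ W₁ → q₁ ∉ Submodule.span F {p₁, u}) → (u ∈ W₂ → q₂ ∉ Submodule.span F {p₂, u}) →
      ∃ d ∈ W₁, Q d = 0 ∧ d ≠ 0 ∧ ∃ y ∈ W₂, y ≠ 0 ∧ eich Q d y ∈ M := by
    intro α β p₁ p₂ q₁ q₂ hp₁ hp₂ hq₁ hq₂ hαd hβd hp₁0 hp₂0 hαQ hαβ' hM' huα' huβ' hn₁ hn₂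
    have hnu : Q (-u) = 0 := by rw [QuadraticMap.map_neg, huQ]
    have hnup : polar Q α (-u) = 0 := by rw [polar_neg_right, polar_comm, huα', neg_zero]
    rcases hside with hu | hu
    · obtain ⟨c, hc, hcq, hcS⟩ := h.exists_dual hq₁ (hn₁ hu)
      have huc : polar Q u c = 0 := by
        rw [polar_comm]; exact hcS u hu (Submodule.subset_span (by simp))
      have hm := swap_mem hαQ hnu hnup (shift_mem hαQ hαβ' hM' huQ huc
        (eich_mem_of_mem₁ h hH hu hc huQ huc) huα'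
        (by rw [← hαd, polar_add_right, h.orth c hc p₂ hp₂,
          hcS p₁ hp₁ (Submodule.subset_span (by simp)), add_zero])
        huβ' (by rw [← hβd, polar_add_right, h.orth c hc q₂ hq₂, hcq, add_zero]))
      rw [← hαd, neg_add] at hm
      exact mixed_of_mem₁ h hH (neg_mem hu) hnu (neg_ne_zero.mpr hu0) (neg_mem hp₁) (neg_mem hp₂)
        (neg_ne_zero.mpr hp₂0)
        (by rw [← neg_add, hαd, polar_neg_left, polar_neg_right, huα']; simp) hm
    · obtain ⟨c, hc, hcq, hcS⟩ := h.symm.exists_dual hq₂ (hn₂ hu)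
      have huc : polar Q u c = 0 := by
        rw [polar_comm]; exact hcS u hu (Submodule.subset_span (by simp))
      have hm := swap_mem hαQ hnu hnup (shift_mem hαQ hαβ' hM' huQ huc
        (eich_mem_of_mem₂ h hH hu hc huQ huc) huα'
        (by rw [← hαd, polar_add_right, h.symm.orth c hc p₁ hp₁,
          hcS p₂ hp₂ (Submodule.subset_span (by simp)), add_zero])
        huβ' (by rw [← hβd, polar_add_right, h.symm.orth c hc q₁ hq₁, hcq, zero_add]))
      rw [← hαd, neg_add] at hm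
      exact mixed_of_mem₂ h hU hH (neg_mem hu) hnu (neg_ne_zero.mpr hu0) (neg_mem hp₁) (neg_mem hp₂)
        (neg_ne_zero.mpr hp₁0)
        (by rw [← neg_add, hαd, polar_neg_left, polar_neg_right, huα']; simp) hm
  -- `u` may lie in the span of the components
  have alt : ∀ {p q : V}, (∀ r t : F, r • p + t • q = 0 → r = 0 ∧ t = 0) →
      q ∈ Submodule.span F {p, u} → ∃ x y : F, x ≠ 0 ∧ u = x • q + y • p := by
    intro p q hpq hm
    obtain ⟨x, y, hxy⟩ := Submodule.mem_span_pair.mp hm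
    have hy : y ≠ 0 := fun e => by
      have := (hpq x (-1) (by rw [← hxy, e]; module)).2
      exact one_ne_zero (neg_eq_zero.mp this)
    refine ⟨y⁻¹, -(y⁻¹ * x), inv_ne_zero hy, ?_⟩
    rw [← hxy, smul_add, smul_smul, smul_smul, inv_mul_cancel₀ hy]
    module
  have hneg : Q (-(a₁ + a₂)) = 0 := by rw [QuadraticMap.map_neg, hα]
  by_cases hgood : (u ∈ W₁ → b₁ ∉ Submodule.span F {a₁, u}) ∧
      (u ∈ W₂ → b₂ ∉ Submodule.span F {a₂, u})
  · exact main ha₁ ha₂ hb₁ hb₂ rfl rfl ha₁0 ha₂0 hα hαβ hM huα huβ hgood.1 hgood.2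
  -- then `u = x q + y p`: use the pair `(β + (y/x) α, -α)`
  obtain ⟨x, y, hx, hxy⟩ : ∃ x y : F, x ≠ 0 ∧
      ((u ∈ W₁ ∧ u = x • b₁ + y • a₁) ∨ (u ∈ W₂ ∧ u = x • b₂ + y • a₂)) := by
    rw [not_and_or] at hgood
    rcases hgood with hg' | hg' <;> simp only [Classical.not_imp, not_not] at hg'
    · obtain ⟨x, y, hx, hxy⟩ := alt (indep ha₁0 hdep₁) hg'.2
      exact ⟨x, y, hx, Or.inl ⟨hg'.1, hxy⟩⟩
    · obtain ⟨x, y, hx, hxy⟩ := alt (indep ha₂0 hdep₂) hg'.2
      exact ⟨x, y, hx, Or.inr ⟨hg'.1, hxy⟩⟩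
  obtain ⟨sQ, -, sp, sM⟩ := hshift (-(y / x))
  have hexcl : u ∈ W₁ → u ∈ W₂ → False := fun p q => hu0 (h.eq_zero p q)
  have hoff : ∀ {p q : V}, (∀ r t : F, r • p + t • q = 0 → r = 0 ∧ t = 0) →
      u = x • q + y • p → -p ∉ Submodule.span F {q - -(y / x) • p, u} := by
    intro p q hpq huv hm
    obtain ⟨s, t, hst⟩ := Submodule.mem_span_pair.mp hm
    have e1 : ((s * (y / x) + t * y) + 1) • p + (s + t * x) • q = 0 := by
      have : s • (q - -(y / x) • p) + t • (x • q + y • p) + p = 0 := by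
        rw [← huv, hst, neg_add_cancel]
      rw [← this]; module
    obtain ⟨f1, f2⟩ := hpq _ _ e1
    have hy' : y / x * x = y := div_mul_cancel₀ _ hx
    refine one_ne_zero (α := F) ?_
    linear_combination f1 - (y / x) * f2 + t * hy'
  refine main (p₁ := b₁ - -(y / x) • a₁) (p₂ := b₂ - -(y / x) • a₂) (q₁ := -a₁) (q₂ := -a₂)
    (sub_mem hb₁ (W₁.smul_mem _ ha₁)) (sub_mem hb₂ (W₂.smul_mem _ ha₂)) (neg_mem ha₁)
    (neg_mem ha₂) (by module) (by module) (fun e => hdep₁ (-(y / x)) (sub_eq_zero.mp e))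
    (fun e => hdep₂ (-(y / x)) (sub_eq_zero.mp e)) sQ sp sM
    (by rw [polar_sub_right, polar_smul_right, huα, huβ]; simp)
    (by rw [polar_neg_right, huα, neg_zero]) (fun hu => ?_) (fun hu => ?_)
  · rcases hxy with ⟨-, e⟩ | ⟨hu', -⟩
    · exact hoff (indep ha₁0 hdep₁) e
    · exact (hexcl hu hu').elim
  · rcases hxy with ⟨hu', -⟩ | ⟨-, e⟩
    · exact (hexcl hu' hu).elim
    · exact hoff (indep ha₂0 hdep₂) e

/-- An element moving `W₁` gives an element centred in `W₁` reaching into `W₂`. -/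
theorem exists_mixed (hC : MixCond Q W₁ W₂) {g : orth Q} (hg : g ∈ M)
    (hgW : ¬ ∀ x ∈ W₁, g.1 x ∈ W₁) (hside : ¬ ∀ x ∈ W₁, g.1 x ∈ W₂) :
    ∃ d ∈ W₁, Q d = 0 ∧ d ≠ 0 ∧ ∃ y ∈ W₂, y ≠ 0 ∧ eich Q d y ∈ M := by
  by_contra hcon
  have key : ∀ a ∈ W₁, ∀ b ∈ W₁, Q a = 0 → Q b = 0 → polar Q a b = 0 → a ≠ 0 →
      (∀ r : F, b ≠ r • a) → (g.1 a ∈ W₁ ∧ g.1 b ∈ W₁) ∨ (g.1 a ∈ W₂ ∧ g.1 b ∈ W₂) := by
    intro a ha b hb haQ hbQ hab ha0 hn
    by_contra hno
    rw [not_or] at hno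
    refine hcon (mixed_of_root h hU hH hC (α := g.1 a) (β := g.1 b) (by rw [map_form, haQ])
      (by rw [map_form, hbQ]) (by rw [map_polar, hab]) (fun r t hrt => ?_) ?_ hno.1 hno.2)
    · rw [← map_smul, ← map_smul, ← map_add, g.1.map_eq_zero_iff] at hrt
      by_cases ht : t = 0
      · rw [ht, zero_smul, add_zero] at hrt
        exact ⟨(smul_eq_zero.mp hrt).resolve_right ha0, ht⟩
      · refine absurd ?_ (hn (-(t⁻¹ * r)))
        have := congrArg (fun v => t⁻¹ • v) hrt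
        simp only [smul_add, smul_smul, inv_mul_cancel₀ ht, one_smul, smul_zero] at this
        rw [neg_smul]
        exact eq_neg_of_add_eq_zero_right this
    · rw [← conj_eich]
      exact mul_mem (mul_mem hg (eich_mem_of_mem₁ h hH ha hb haQ hab)) (inv_mem hg)
  obtain ⟨e, he, heQ, -, hen⟩ := exists_perp_sing hU 0
  have he0 : e ≠ 0 := fun h0 => hen 0 (by rw [h0, smul_zero])
  have hge : g.1 e ≠ 0 := fun h0 => he0 (g.1.map_eq_zero_iff.mp h0)
  have same : ∀ a ∈ W₁, Q a = 0 →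
      (g.1 e ∈ W₁ → g.1 a ∈ W₁) ∧ (g.1 e ∈ W₂ → g.1 a ∈ W₂) := by
    intro a ha haQ
    by_cases hae : ∃ r : F, a = r • e
    · obtain ⟨r, rfl⟩ := hae
      rw [map_smul]
      exact ⟨W₁.smul_mem r, W₂.smul_mem r⟩
    simp only [not_exists] at hae
    by_cases hp : polar Q e a = 0
    · rcases key e he a ha heQ haQ hp he0 hae with ⟨s1, s2⟩ | ⟨s1, s2⟩
      · exact ⟨fun _ => s2, fun h' => absurd (h.eq_zero s1 h') hge⟩
      · exact ⟨fun h' => absurd (h.eq_zero h' s1) hge, fun _ => s2⟩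
    · obtain ⟨b, hb, hbQ, heb, hab, hbe, hba⟩ := exists_common hU he heQ hp
      have hgb : g.1 b ≠ 0 := fun h0 => hbe 0 (by rw [zero_smul]; exact g.1.map_eq_zero_iff.mp h0)
      have ha0 : a ≠ 0 := fun h0 => hae 0 (by rw [h0, zero_smul])
      rcases key e he b hb heQ hbQ heb he0 hbe with ⟨s1, s2⟩ | ⟨s1, s2⟩ <;>
        rcases key a ha b hb haQ hbQ hab ha0 hba with ⟨t1, t2⟩ | ⟨t1, t2⟩
      · exact ⟨fun _ => t1, fun h' => absurd (h.eq_zero s1 h') hge⟩
      · exact absurd (h.eq_zero s2 t2) hgb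
      · exact absurd (h.eq_zero t2 s2) hgb
      · exact ⟨fun h' => absurd (h.eq_zero h' s1) hge, fun _ => t1⟩
  obtain ⟨b, hb, hbQ, heb, hbn⟩ := exists_perp_sing hU e
  rcases key e he b hb heQ hbQ heb he0 hbn with ⟨s1, -⟩ | ⟨s1, -⟩
  · exact hgW fun x hx => le_of_singular_mem h hU (S := W₁.comap g.1.toLinearMap)
      (fun x hx hxQ => (same x hx hxQ).1 s1) hx
  · exact hside fun x hx => le_of_singular_mem h hU (S := W₂.comap g.1.toLinearMap)
      (fun x hx hxQ => (same x hx hxQ).2 s1) hx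

include h5 in
/-- A subgroup with the stabiliser and one more element contains `Ω`. -/
theorem eichGroup_le_of_stab (hC : MixCond Q W₁ W₂)
    (hsmall : ∀ S : Submodule F V, S ≤ W₂ → S ≠ ⊥ →
      (∀ s ∈ S, ∀ p ∈ W₂, Q p ≠ 0 → polar Q s p ≠ 0 → p ∈ S) →
      (∀ u ∈ W₂, ∀ z ∈ W₂, Q u = 0 → polar Q u z = 0 → ∀ s ∈ S, (eich Q u z).1 s ∈ S) → W₂ ≤ S)
    {g : orth Q} (hg : g ∈ M) (hgW : ¬ ∀ x ∈ W₁, g.1 x ∈ W₁)
    (hside : ¬ ∀ x ∈ W₁, g.1 x ∈ W₂) : eichGroup Q ≤ M := by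
  classical
  obtain ⟨d, hdW, hdQ, hd0, y, hy, hy0, hyM⟩ := exists_mixed h hU hH hC hg hgW hside
  have hdperp : ∀ z ∈ W₂, polar Q d z = 0 := fun z hz => h.orth d hdW z hz
  -- the vectors reached from `d`
  let A : Submodule F V :=
    { carrier := {z | z ∈ W₂ ∧ eich Q d z ∈ M}
      zero_mem' := ⟨W₂.zero_mem, by rw [eich_zero]; exact one_mem M⟩
      add_mem' := fun {z z'} hz hz' => ⟨add_mem hz.1 hz'.1, by
        rw [← eich_mul hdQ (hdperp z hz.1) (hdperp z' hz'.1)]; exact mul_mem hz.2 hz'.2⟩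
      smul_mem' := fun c z hz => by
        by_cases hc : c = 0
        · rw [hc, zero_smul]; exact ⟨W₂.zero_mem, by rw [eich_zero]; exact one_mem M⟩
        obtain ⟨k, hk, hk1, hk2, hkd⟩ := exists_move_singular h hU hdW (W₁.smul_mem c hdW) hd0
          (smul_ne_zero hc hd0) hdQ (by rw [form_smul, hdQ, mul_zero])
        have hkM := hH k hk hk1
        refine ⟨W₂.smul_mem c hz.1, ?_⟩
        rw [← eich_smul_left hdQ (hdperp z hz.1), ← hkd, ← hk2 z hz.1, ← conj_eich]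
        exact mul_mem (mul_mem hkM hz.2) (inv_mem hkM) }
  have hA : W₂ ≤ A := by
    refine hsmall A (fun z hz => hz.1) (fun e => hy0 ?_) (fun s hs p hp hpQ hsp => ?_)
      (fun u hu z hz hQu huz s hs => ?_)
    · exact (Submodule.eq_bot_iff A).mp e y ⟨hy, hyM⟩
    · obtain ⟨e, he, heQ, hed', hen⟩ := exists_perp_sing hU d
      have hed : polar Q e d = 0 := by rw [polar_comm]; exact hed'
      have heS : e ∉ Submodule.span F {d} := fun hm => by
        obtain ⟨r, hr⟩ := Submodule.mem_span_singleton.mp hm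
        exact hen r hr.symm
      obtain ⟨x, hx, hxe, hxS⟩ := h.exists_dual he heS
      set q := x + (Q p - Q x) • e with hq
      have hqW : q ∈ W₁ := add_mem hx (W₁.smul_mem _ he)
      have hqQ : Q q = Q p := by
        rw [hq, form_add, form_smul, heQ, polar_smul_right, hxe, smul_eq_mul]; ring
      have hqd : polar Q q d = 0 := by
        rw [hq, polar_add_left, polar_smul_left, hxS d hdW (Submodule.mem_span_singleton_self d),
          hed, smul_zero, add_zero]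
      set k := rf Q p * rf Q q with hk
      have hkE : k ∈ eichGroup Q := rf_mul_rf_mem h.nd h5 hpQ hqQ.symm
      have hk1 : ∀ x ∈ W₁, k.1 x ∈ W₁ := fun x hx => by
        have hrq : (rf Q q).1 x ∈ W₁ := by
          rw [rf_apply]; exact sub_mem hx (W₁.smul_mem _ hqW)
        rw [hk, coe_mul_apply, rf_apply_of_polar (by rw [polar_comm]; exact h.orth _ hrq p hp)]
        exact hrq
      have hkM := hH k hkE hk1
      have hkd : k.1 d = d := by
        rw [hk, coe_mul_apply, rf_apply_of_polar hqd,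
          rf_apply_of_polar (by rw [polar_comm]; exact h.orth d hdW p hp)]
      have hks : k.1 s = s - ((Q p)⁻¹ * polar Q p s) • p := by
        rw [hk, coe_mul_apply, rf_apply_of_polar (h.orth q hqW s hs.1), rf_apply]
      have hmem : k.1 s ∈ A := by
        refine ⟨by rw [hks]; exact sub_mem hs.1 (W₂.smul_mem _ hp), ?_⟩
        have := mul_mem (mul_mem hkM hs.2) (inv_mem hkM)
        rwa [conj_eich, hkd] at this
      have h' := sub_mem hs hmem
      rw [hks, sub_sub_cancel] at h'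
      refine (Submodule.smul_mem_iff A ?_).mp h'
      exact mul_ne_zero (inv_ne_zero hpQ) (by rwa [polar_comm])
    · set k := eich Q u z
      have hk1 : ∀ x ∈ W₁, k.1 x = x := fun x hx => by
        rw [eich_apply hQu huz, polar_comm Q u x, h.orth x hx u hu, polar_comm Q z x,
          h.orth x hx z hz]
        simp
      have hkM := hH k (eich_mem_eichGroup _ _) fun x hx => by rw [hk1 x hx]; exact hx
      refine ⟨?_, ?_⟩
      · rw [eich_apply hQu huz]
        exact sub_mem (sub_mem (add_mem hs.1 (W₂.smul_mem _ hz)) (W₂.smul_mem _ hu))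
          (W₂.smul_mem _ hu)
      · have := mul_mem (mul_mem hkM hs.2) (inv_mem hkM)
        rwa [conj_eich, hk1 d hdW] at this
  -- every singular vector of `W₁` reaches everything orthogonal
  have hfull : ∀ u ∈ W₁, Q u = 0 → ∀ z, polar Q u z = 0 → eich Q u z ∈ M := by
    intro u hu huQ z huz
    by_cases hu0 : u = 0
    · have : eich Q u z = 1 := orth_ext fun x => by
        rw [eich_apply huQ huz, hu0]; simp
      rw [this]; exact one_mem M
    obtain ⟨p, hp, q, hq, rfl⟩ := h.exists_add z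
    have hup : polar Q u p = 0 := by
      rw [polar_add_right, h.orth u hu q hq, add_zero] at huz; exact huz
    rw [← eich_mul huQ hup (h.orth u hu q hq)]
    refine mul_mem (eich_mem_of_mem₁ h hH hu hp huQ hup) ?_
    obtain ⟨k, hk, hk1, hk2, hkd⟩ := exists_move_singular h hU hdW hu hd0 hu0 hdQ huQ
    have hkM := hH k hk hk1
    rw [← hkd, ← hk2 q hq, ← conj_eich]
    exact mul_mem (mul_mem hkM (hA hq).2) (inv_mem hkM)
  -- move any singular vector into `W₁`
  refine eichGroup_le_of_singular h.nd h5 fun u z huQ _ huz => ?_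
  suffices hmove : ∃ k ∈ M, k.1 u ∈ W₁ by
    obtain ⟨k, hk, hku⟩ := hmove
    have h' := hfull _ hku (by rw [map_form, huQ]) (k.1 z) (by rw [map_polar, huz])
    rw [← conj_eich] at h'
    simpa [mul_assoc] using mul_mem (mul_mem (inv_mem hk) h') hk
  have mixed : ∀ x ∈ W₁, ∀ w ∈ W₂, x ≠ 0 → ∃ k ∈ M, k.1 (x + w) ∈ W₁ := by
    intro x hx w hw hx0
    obtain ⟨s, hs, hsQ, hsx⟩ : ∃ s ∈ W₁, Q s = 0 ∧ polar Q s x = 1 := by
      obtain ⟨s, hs, hsQ, hne⟩ : ∃ s ∈ W₁, Q s = 0 ∧ polar Q s x ≠ 0 := by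
        by_contra hc
        simp only [not_exists, not_and, not_not] at hc
        refine hx0 (h.nd x fun v => ?_)
        obtain ⟨v1, hv1, v2, hv2, rfl⟩ := h.exists_add v
        rw [polar_add_right, h.orth x hx v2 hv2, add_zero]
        exact le_of_singular_mem h hU (S := LinearMap.ker (polarBilin Q x))
          (fun t ht htQ => by
            show polar Q x t = 0
            rw [polar_comm]; exact hc t ht htQ) hv1
      exact ⟨(polar Q s x)⁻¹ • s, W₁.smul_mem _ hs, by rw [form_smul, hsQ, mul_zero],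
        by rw [polar_smul_left, smul_eq_mul, inv_mul_cancel₀ hne]⟩
    have hsw : polar Q s (-w) = 0 := by rw [polar_neg_right, h.orth s hs w hw, neg_zero]
    refine ⟨eich Q s (-w), hfull s hs hsQ _ hsw, ?_⟩
    rw [eich_apply hsQ hsw, polar_add_right Q s x w, hsx, h.orth s hs w hw, add_zero, one_smul]
    have : x + w + -w = x := by abel
    rw [this]
    exact sub_mem (sub_mem hx (W₁.smul_mem _ hs)) (W₁.smul_mem _ hs)
  obtain ⟨x, hx, w, hw, rfl⟩ := h.exists_add u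
  by_cases hx0 : x = 0
  swap
  · exact mixed x hx w hw hx0
  by_cases hw0 : w = 0
  · exact ⟨1, one_mem M, by simp [hx0, hw0]⟩
  obtain ⟨z', hz', hz'w, -⟩ := h.symm.exists_dual (S := ⊥) hw (by simpa using hw0)
  have hdz : polar Q d z' = 0 := hdperp z' hz'
  obtain ⟨k, hk, hku⟩ := mixed (-d) (neg_mem hdW) w hw (neg_ne_zero.mpr hd0)
  refine ⟨k * eich Q d z', mul_mem hk (hfull d hdW hdQ z' hdz), ?_⟩
  rw [coe_mul_apply, hx0, zero_add, eich_apply hdQ hdz, hdperp w hw, hz'w]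
  simpa [neg_add_eq_sub, sub_eq_add_neg, add_comm] using hku

end Big

/-- Dimension five leaves a singular neighbour. -/
theorem mixCond_of_five (h : IsOrthPair Q W₁ W₂) (hd : 5 ≤ Module.finrank F W₁) :
    MixCond Q W₁ W₂ := by
  intro a₁ ha₁ b₁ hb₁ a₂ ha₂ b₂ hb₂ _ _ _ _ _
  have hdim : 3 ≤ Module.finrank F
      ↥(W₁ ⊓ LinearMap.ker ((polarBilin Q a₁).prod (polarBilin Q b₁))) := by
    have e1 := Submodule.finrank_sup_add_finrank_inf_eq W₁
      (LinearMap.ker ((polarBilin Q a₁).prod (polarBilin Q b₁)))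
    have e2 := LinearMap.finrank_range_add_finrank_ker ((polarBilin Q a₁).prod (polarBilin Q b₁))
    have e3 := Submodule.finrank_le (LinearMap.range ((polarBilin Q a₁).prod (polarBilin Q b₁)))
    have e4 := Submodule.finrank_le
      (W₁ ⊔ LinearMap.ker ((polarBilin Q a₁).prod (polarBilin Q b₁)))
    simp [Module.finrank_prod] at e3
    omega
  obtain ⟨u, ⟨huW, huL⟩, hu0, huQ⟩ := exists_singular_mem (Q := Q) _ hdim
  simp at huL
  exact ⟨u, Or.inl huW, hu0, huQ,
    by rw [polar_add_right, polar_comm Q u a₁, huL.1, h.orth u huW a₂ ha₂, add_zero],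
    by rw [polar_add_right, polar_comm Q u b₁, huL.2, h.orth u huW b₂ hb₂, add_zero]⟩

/-- The discriminant of an anisotropic pair. -/
theorem disc_ne_zero {a b : V}
    (han : ∀ p q : F, Q (p • a + q • b) = 0 → p = 0 ∧ q = 0) :
    polar Q a b * polar Q a b - 4 * Q a * Q b ≠ 0 := by
  have hQ : ∀ p q : F, Q (p • a + q • b) = p * p * Q a + q * q * Q b + p * q * polar Q a b :=
    fun p q => by
      rw [form_add, form_smul, form_smul, polar_smul_left, polar_smul_right, smul_eq_mul,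
        smul_eq_mul]
      ring
  have hQa : Q a ≠ 0 := fun e => one_ne_zero (han 1 0 (by simp [e])).1
  intro hD
  by_cases h2 : (2 : F) = 0
  · haveI : Fintype F := Fintype.ofFinite F
    have h2' : ringChar F = 2 := by
      by_contra hne
      exact Ring.two_ne_zero hne h2
    have hab : polar Q a b = 0 := mul_self_eq_zero.mp
      (by linear_combination hD + 2 * Q a * Q b * h2)
    obtain ⟨t, ht⟩ := FiniteField.isSquare_of_char_two h2' (Q b / Q a)
    have := (han t 1 (by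
      rw [hQ, hab, ← ht, div_mul_cancel₀ _ hQa]
      linear_combination Q b * h2)).2
    exact one_ne_zero this
  · have h3 := (han (-polar Q a b) (2 * Q a) (by
      rw [hQ]; linear_combination -(Q a) * hD)).2
    exact hQa ((mul_eq_zero.mp h3).resolve_left h2)

/-- An anisotropic plane has a basis in which the form is `c (x² + x y + ζ y²)`. -/
theorem exists_normal_basis (P : Submodule F V) (hP : Module.finrank F P = 2)
    (han : ∀ x ∈ P, Q x = 0 → x = 0) {c : F} (hc : c ≠ 0) :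
    ∃ (e f : V) (ζ : F), e ∈ P ∧ f ∈ P ∧ (∀ t : F, t ^ 2 + t + ζ ≠ 0) ∧
      (∀ p q : F, p • e + q • f = 0 → p = 0 ∧ q = 0) ∧
      ∀ p q : F, Q (p • e + q • f) = c * (p ^ 2 + 1 * p * q + ζ * q ^ 2) := by
  obtain ⟨e', he'⟩ := Forms59.exists_eq_of_binary (Q.comp P.subtype) hP
    (fun v hv => Subtype.ext (han v v.2 hv)) hc
  obtain ⟨e, heP⟩ := e'
  have he : Q e = c := he'
  obtain ⟨g, hgP, hgn⟩ := SetLike.not_le_iff_exists.mp (show ¬ P ≤ Submodule.span F {e} from
    fun h => by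
      have e1 := Submodule.finrank_mono h
      have e2 : Module.finrank F (Submodule.span F {e}) ≤ 1 :=
        finrank_span_le_card {e} |>.trans (by simp)
      omega)
  have hind : ∀ p q : F, p • e + q • g = 0 → p = 0 ∧ q = 0 := by
    intro p q hpq
    have hq : q = 0 := by
      by_contra hq
      refine hgn (Submodule.mem_span_singleton.mpr ⟨-(q⁻¹ * p), ?_⟩)
      have := congrArg (fun v => q⁻¹ • v) hpq
      simp only [smul_add, smul_smul, inv_mul_cancel₀ hq, one_smul, smul_zero] at this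
      rw [neg_smul]
      exact (eq_neg_of_add_eq_zero_right this).symm
    refine ⟨?_, hq⟩
    rw [hq, zero_smul, add_zero] at hpq
    exact (smul_eq_zero.mp hpq).resolve_right fun h0 => hc (by rw [← he, h0, QuadraticMap.map_zero])
  have han' : ∀ p q : F, Q (p • e + q • g) = 0 → p = 0 ∧ q = 0 := fun p q h =>
    hind p q (han _ (add_mem (P.smul_mem p heP) (P.smul_mem q hgP)) h)
  obtain ⟨x, y, hy, hxy⟩ : ∃ x y : F, y ≠ 0 ∧ 2 * c * x + y * polar Q e g = c := by
    by_cases hb : polar Q e g = 0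
    · have h2 : (2 : F) ≠ 0 := fun h2 => disc_ne_zero han' (by
        rw [hb]; linear_combination -(2 * Q e * Q g) * h2)
      exact ⟨2⁻¹, 1, one_ne_zero, by rw [hb]; field_simp; ring⟩
    · exact ⟨0, c / polar Q e g, div_ne_zero hc hb, by field_simp; ring⟩
  have hef : polar Q e (x • e + y • g) = c := by
    rw [polar_add_right, polar_smul_right, polar_smul_right, polar_self_eq, he, smul_eq_mul,
      smul_eq_mul]
    linear_combination hxy
  have hfe : ∀ p q : F, p • e + q • (x • e + y • g) = 0 → p = 0 ∧ q = 0 := fun p q h => by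
    obtain ⟨h1, h2⟩ := hind (p + q * x) (q * y) (by rw [← h]; module)
    have hq : q = 0 := (mul_eq_zero.mp h2).resolve_right hy
    exact ⟨by simpa [hq] using h1, hq⟩
  have hval : ∀ p q : F, Q (p • e + q • (x • e + y • g)) =
      c * (p ^ 2 + 1 * p * q + Q (x • e + y • g) / c * q ^ 2) := fun p q => by
    rw [form_add, form_smul, form_smul, he, polar_smul_left, polar_smul_right, hef, smul_eq_mul,
      smul_eq_mul]
    field_simp
    ring
  refine ⟨e, x • e + y • g, _, heP, add_mem (P.smul_mem x heP) (P.smul_mem y hgP),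
    fun t ht => ?_, hfe, hval⟩
  have h0 := han _ (add_mem (P.smul_mem t heP)
    (P.smul_mem (1 : F) (add_mem (P.smul_mem x heP) (P.smul_mem y hgP))))
    (by rw [hval]; linear_combination c * ht)
  exact one_ne_zero (hfe t 1 h0).2

/-- Two four-spaces with no totally singular four-space in the whole space. -/
theorem mixCond_of_four (h : IsOrthPair Q W₁ W₂) (hU : HasLine Q W₁)
    (hd : 4 ≤ Module.finrank F W₁) (hd' : 4 ≤ Module.finrank F W₂)
    (hmax : ∀ U : Submodule F V, (∀ x ∈ U, Q x = 0) → Module.finrank F U < 4) :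
    MixCond Q W₁ W₂ := by
  intro a₁ ha₁ b₁ hb₁ a₂ ha₂ b₂ hb₂ hi₁ hi₂ hα hβ hαβ
  by_contra hcon
  simp only [not_exists, not_and] at hcon
  have no₁ : ∀ u ∈ W₁, Q u = 0 → polar Q u a₁ = 0 → polar Q u b₁ = 0 → u = 0 := by
    intro u hu huQ p1 p2
    by_contra hu0
    exact hcon u (Or.inl hu) hu0 huQ
      (by rw [polar_add_right, p1, h.orth u hu a₂ ha₂, add_zero])
      (by rw [polar_add_right, p2, h.orth u hu b₂ hb₂, add_zero])
  have no₂ : ∀ u ∈ W₂, Q u = 0 → polar Q u a₂ = 0 → polar Q u b₂ = 0 → u = 0 := by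
    intro u hu huQ p1 p2
    by_contra hu0
    exact hcon u (Or.inr hu) hu0 huQ
      (by rw [polar_add_right, p1, h.symm.orth u hu a₁ ha₁, zero_add])
      (by rw [polar_add_right, p2, h.symm.orth u hu b₁ hb₁, zero_add])
  -- the components span anisotropic planes
  have han₁ : ∀ p q : F, Q (p • a₁ + q • b₁) = 0 → p = 0 ∧ q = 0 := by
    intro p q hs
    refine hi₁ p q ?_
    obtain ⟨s, hsd⟩ : ∃ s, s = p • a₁ + q • b₁ := ⟨_, rfl⟩
    rw [← hsd] at hs ⊢
    have hsW : s ∈ W₁ := hsd ▸ add_mem (W₁.smul_mem p ha₁) (W₁.smul_mem q hb₁)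
    by_contra hs0
    by_cases hperp : polar Q s a₁ = 0 ∧ polar Q s b₁ = 0
    · exact hs0 (no₁ s hsW hs hperp.1 hperp.2)
    obtain ⟨b₀, hb₀, hb₀Q, hsb, hbn⟩ := exists_perp_sing hU s
    obtain ⟨s', hs', hne⟩ : ∃ s', (s' = a₁ ∨ s' = b₁) ∧ polar Q s s' ≠ 0 := by
      by_cases h' : polar Q s a₁ = 0
      · exact ⟨b₁, Or.inr rfl, fun e => hperp ⟨h', e⟩⟩
      · exact ⟨a₁, Or.inl rfl, h'⟩
    obtain ⟨u, hu⟩ : ∃ u, u = b₀ - (polar Q b₀ s' / polar Q s s') • s := ⟨_, rfl⟩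
    have hus : polar Q u s = 0 := by
      rw [hu, polar_sub_left, polar_smul_left, polar_self_eq, hs, polar_comm Q b₀ s, hsb]; simp
    have hus' : polar Q u s' = 0 := by
      rw [hu, polar_sub_left, polar_smul_left, smul_eq_mul, div_mul_cancel₀ _ hne, sub_self]
    have huQ : Q u = 0 := by
      rw [hu, sub_eq_add_neg, form_add, QuadraticMap.map_neg, form_smul, hs, hb₀Q,
        polar_neg_right, polar_smul_right, polar_comm Q b₀ s, hsb]
      simp
    have hu0 : u ≠ 0 := fun e => hbn _ (sub_eq_zero.mp (hu.symm.trans e))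
    refine hu0 (no₁ u (hu ▸ sub_mem hb₀ (W₁.smul_mem _ hsW)) huQ ?_ ?_)
    all_goals
      rw [hsd, polar_add_right, polar_smul_right, polar_smul_right, smul_eq_mul, smul_eq_mul] at hus
      have hself : p * polar Q s a₁ + q * polar Q s b₁ = 0 := by
        have := polar_self_eq (Q := Q) s
        rw [hs, mul_zero] at this
        nth_rewrite 2 [hsd] at this
        rwa [polar_add_right, polar_smul_right, polar_smul_right, smul_eq_mul, smul_eq_mul] at this
      rcases hs' with rfl | rfl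
      · have hq : q ≠ 0 := fun e => by
          rw [e, zero_mul, add_zero] at hself
          exact hs0 (by rw [hsd, e, (mul_eq_zero.mp hself).resolve_right hne]; simp)
        first
          | exact hus'
          | (rw [hus', mul_zero, zero_add] at hus
             exact (mul_eq_zero.mp hus).resolve_left hq)
      · have hp : p ≠ 0 := fun e => by
          rw [e, zero_mul, zero_add] at hself
          exact hs0 (by rw [hsd, e, (mul_eq_zero.mp hself).resolve_right hne]; simp)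
        first
          | exact hus'
          | (rw [hus', mul_zero, add_zero] at hus
             exact (mul_eq_zero.mp hus).resolve_left hp)
  have hQsum : ∀ p q : F, Q (p • a₂ + q • b₂) = -Q (p • a₁ + q • b₁) := by
    intro p q
    have h0 : Q ((p • a₁ + q • b₁) + (p • a₂ + q • b₂)) = 0 := by
      rw [show (p • a₁ + q • b₁) + (p • a₂ + q • b₂) = p • (a₁ + a₂) + q • (b₁ + b₂) by module,
        form_add, form_smul, form_smul, polar_smul_left, polar_smul_right, hα, hβ, hαβ]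
      simp
    rw [form_add, h.orth _ (add_mem (W₁.smul_mem p ha₁) (W₁.smul_mem q hb₁)) _
      (add_mem (W₂.smul_mem p ha₂) (W₂.smul_mem q hb₂)), add_zero] at h0
    linear_combination h0
  -- the orthogonal planes
  have hplane : ∀ {W : Submodule F V} {a b : V}, 4 ≤ Module.finrank F W →
      (∀ u ∈ W, Q u = 0 → polar Q u a = 0 → polar Q u b = 0 → u = 0) →
      ∃ P : Submodule F V, P ≤ W ∧ Module.finrank F P = 2 ∧ (∀ x ∈ P, Q x = 0 → x = 0) ∧
        ∀ x ∈ P, polar Q x a = 0 ∧ polar Q x b = 0 := by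
    intro W a b hW hno
    refine ⟨W ⊓ LinearMap.ker ((polarBilin Q a).prod (polarBilin Q b)), inf_le_left, ?_, ?_, ?_⟩
    rotate_left
    · rintro x ⟨hx, hxL⟩ hxQ
      simp at hxL
      exact hno x hx hxQ (by rw [polar_comm]; exact hxL.1) (by rw [polar_comm]; exact hxL.2)
    · rintro x ⟨hx, hxL⟩
      simp at hxL
      exact ⟨by rw [polar_comm]; exact hxL.1, by rw [polar_comm]; exact hxL.2⟩
    · refine le_antisymm (by_contra fun hge => ?_) ?_
      · obtain ⟨x, ⟨hx, hxL⟩, hx0, hxQ⟩ := exists_singular_mem (Q := Q)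
          (W ⊓ LinearMap.ker ((polarBilin Q a).prod (polarBilin Q b))) (by omega)
        simp at hxL
        exact hx0 (hno x hx hxQ (by rw [polar_comm]; exact hxL.1) (by rw [polar_comm]; exact hxL.2))
      · have e1 := Submodule.finrank_sup_add_finrank_inf_eq W
          (LinearMap.ker ((polarBilin Q a).prod (polarBilin Q b)))
        have e2 := LinearMap.finrank_range_add_finrank_ker ((polarBilin Q a).prod (polarBilin Q b))
        have e3 := Submodule.finrank_le (LinearMap.range ((polarBilin Q a).prod (polarBilin Q b)))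
        have e4 := Submodule.finrank_le
          (W ⊔ LinearMap.ker ((polarBilin Q a).prod (polarBilin Q b)))
        simp [Module.finrank_prod] at e3
        omega
  obtain ⟨P₁, hP₁W, hP₁2, hP₁a, hP₁o⟩ := hplane hd no₁
  obtain ⟨P₂, hP₂W, hP₂2, hP₂a, hP₂o⟩ := hplane hd' no₂
  obtain ⟨e, f, ζ, he, hf, hζ, hef, hval⟩ := exists_normal_basis P₁ hP₁2 hP₁a one_ne_zero
  obtain ⟨e', f', ζ', he', hf', hζ', -, hval'⟩ :=
    exists_normal_basis P₂ hP₂2 hP₂a (neg_ne_zero.mpr (one_ne_zero (α := F)))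
  obtain ⟨T, hT⟩ := Forms59.exists_binary_isometry ζ ζ' hζ hζ'
  let L : (Fin 2 → F) × (Fin 2 → F) →ₗ[F] V :=
    ((Fintype.linearCombination F ![a₁ + a₂, b₁ + b₂]).coprod
      (Fintype.linearCombination F ![e, f] +
        (Fintype.linearCombination F ![e', f']).comp T.toLinearMap))
  have hL : ∀ z w, L (z, w) = (z 0 • (a₁ + a₂) + z 1 • (b₁ + b₂)) +
      ((w 0 • e + w 1 • f) + (T w 0 • e' + T w 1 • f')) := fun z w => by
    simp [L, Fintype.linearCombination_apply, Fin.sum_univ_two]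
  have hperp : ∀ (z : Fin 2 → F) (x y : V), x ∈ P₁ → y ∈ P₂ →
      polar Q (z 0 • (a₁ + a₂) + z 1 • (b₁ + b₂)) (x + y) = 0 := by
    intro z x y hx hy
    have p1 := hP₁o x hx
    have p2 := hP₂o y hy
    simp only [polar_add_left, polar_add_right, polar_smul_left, polar_comm Q a₁ x,
      polar_comm Q b₁ x, polar_comm Q a₂ y, polar_comm Q b₂ y, p1.1, p1.2, p2.1, p2.2,
      h.orth a₁ ha₁ y (hP₂W hy), h.orth b₁ hb₁ y (hP₂W hy),
      h.symm.orth a₂ ha₂ x (hP₁W hx), h.symm.orth b₂ hb₂ x (hP₁W hx)]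
    simp
  have hsing : ∀ x ∈ LinearMap.range L, Q x = 0 := by
    rintro _ ⟨⟨z, w⟩, rfl⟩
    rw [hL, form_add, hperp z _ _ (add_mem (P₁.smul_mem _ he) (P₁.smul_mem _ hf))
      (add_mem (P₂.smul_mem _ he') (P₂.smul_mem _ hf')), form_add, form_smul, form_smul,
      polar_smul_left, polar_smul_right, hα, hβ, hαβ, form_add (x := w 0 • e + w 1 • f),
      h.orth _ (hP₁W (add_mem (P₁.smul_mem _ he) (P₁.smul_mem _ hf))) _
        (hP₂W (add_mem (P₂.smul_mem _ he') (P₂.smul_mem _ hf'))), hval, hval', hT]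
    simp
  have hinj : Function.Injective L := by
    rw [injective_iff_map_eq_zero]
    rintro ⟨z, w⟩ h0
    rw [hL] at h0
    obtain ⟨x, hx⟩ : ∃ x, x = z 0 • a₁ + z 1 • b₁ := ⟨_, rfl⟩
    have hxW : x + (w 0 • e + w 1 • f) = 0 := by
      refine h.eq_zero (hx ▸ add_mem (add_mem (W₁.smul_mem _ ha₁) (W₁.smul_mem _ hb₁))
        (hP₁W (add_mem (P₁.smul_mem _ he) (P₁.smul_mem _ hf)))) ?_
      rw [show x + (w 0 • e + w 1 • f) =
          -((z 0 • a₂ + z 1 • b₂) + (T w 0 • e' + T w 1 • f')) by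
        rw [← sub_eq_zero, ← h0, hx]; module]
      exact neg_mem (add_mem (add_mem (W₂.smul_mem _ ha₂) (W₂.smul_mem _ hb₂))
        (hP₂W (add_mem (P₂.smul_mem _ he') (P₂.smul_mem _ hf'))))
    have hxP : x ∈ P₁ := by
      rw [eq_neg_of_add_eq_zero_left hxW]
      exact neg_mem (add_mem (P₁.smul_mem _ he) (P₁.smul_mem _ hf))
    obtain ⟨r1, r2⟩ := hP₁o x hxP
    rw [hx, polar_add_left, polar_smul_left, polar_smul_left, smul_eq_mul, smul_eq_mul] at r1 r2
    rw [polar_self_eq, polar_comm Q b₁ a₁] at r1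
    rw [polar_self_eq] at r2
    have hD := disc_ne_zero han₁
    have hz0 : z 0 * (polar Q a₁ b₁ * polar Q a₁ b₁ - 4 * Q a₁ * Q b₁) = 0 := by
      linear_combination (-(2 * Q b₁)) * r1 + polar Q a₁ b₁ * r2
    have hz1 : z 1 * (polar Q a₁ b₁ * polar Q a₁ b₁ - 4 * Q a₁ * Q b₁) = 0 := by
      linear_combination polar Q a₁ b₁ * r1 + (-(2 * Q a₁)) * r2
    have z0 := (mul_eq_zero.mp hz0).resolve_right hD
    have z1 := (mul_eq_zero.mp hz1).resolve_right hD
    rw [hx, z0, z1] at hxW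
    obtain ⟨w0, w1⟩ := hef (w 0) (w 1) (by rw [← hxW]; simp)
    refine Prod.ext (funext fun i => ?_) (funext fun i => ?_) <;> fin_cases i <;> assumption
  have := hmax (LinearMap.range L) hsing
  rw [LinearMap.finrank_range_of_inj hinj] at this
  simp [Module.finrank_prod] at this

section Mat

open Matrix

variable {ι : Type} [Fintype ι] [DecidableEq ι]
variable {Qm : QuadraticForm F (ι → F)} {X₁ X₂ : Submodule F (ι → F)}

/-- The stabiliser in `Ω` of a member of an orthogonal pair is maximal. -/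
theorem isMaximalIn_of_orthPair (h : IsOrthPair Qm X₁ X₂) (hU : HasLine Qm X₁)
    (h5 : 5 ≤ Module.finrank F (ι → F)) (hC : MixCond Qm X₁ X₂) (hX₂ : X₂ ≠ ⊥)
    (hex : Nat.card F ≤ 3 → Module.finrank F X₂ = 2 → ∀ x ∈ X₂, Qm x = 0 → x = 0)
    (hns : ∀ g : orth Qm, ¬ ∀ x ∈ X₁, g.1 x ∈ X₂) :
    Geo.IsMaximalIn (Geo.omegaGL ⇑Qm) (Geo.subspaceStabilizer X₁ ⊓ Geo.omegaGL ⇑Qm) := by
  refine isMaximalIn_of_gen h.nd h5 X₁ ?_ fun M g hH hg hgW =>
    eichGroup_le_of_stab h hU h5 hH hC (fun S hSW hS0 => eq_of_invariant h hex hSW hS0)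
      hg hgW (hns g)
  obtain ⟨d, hd, hdQ, -, hdn⟩ := exists_perp_sing hU 0
  have hd0 : d ≠ 0 := fun h0 => hdn 0 (by rw [h0, smul_zero])
  obtain ⟨c, hc, hcd, -⟩ := h.exists_dual (S := ⊥) hd (by simpa using hd0)
  obtain ⟨z, hz, hz0⟩ := (Submodule.ne_bot_iff _).mp hX₂
  have hdz := h.orth d hd z hz
  refine ⟨eich Qm d z, eich_mem_eichGroup _ _, fun hall => hz0 (h.eq_zero ?_ hz)⟩
  have h1 := hall c hc
  rw [eich_apply hdQ hdz, polar_comm Qm d c, hcd, polar_comm Qm z c, h.orth c hc z hz] at h1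
  simp only [one_smul, zero_smul, sub_zero, mul_one] at h1
  have h2 := add_mem (sub_mem h1 hc) (X₁.smul_mem (Qm z) hd)
  rwa [show c + z - Qm z • d - c + Qm z • d = z by abel] at h2

end Mat

end Cfsg.Agent.Omega8Minus50
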