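import Cfsg.Agent.Omega8Minus50.Stab

/-!
The subspace clauses for `Ω₈⁻(q)` (helper50).
-/

set_option autoImplicit false
set_option linter.unusedSectionVars false

namespace Cfsg.Agent.Omega8Minus50

open QuadraticMap Cfsg.Agent.UnitaryOrthogonal Cfsg.Agent.OrthStab Matrix

section Abstract

variable {F : Type*} [Field F] [Finite F] {V : Type*} [AddCommGroup V] [Module F V]
variable [FiniteDimensional F V] {Q : QuadraticForm F V} {W₁ W₂ : Submodule F V}

/-- A singular vector, its partner and the plane orthogonal to both. -/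
theorem exists_hyp (h : IsOrthPair Q W₁ W₂) (hd : 3 ≤ Module.finrank F W₁) :
    ∃ e ∈ W₁, ∃ f ∈ W₁, e ≠ 0 ∧ Q e = 0 ∧ polar Q f e = 1 ∧ ∃ P : Submodule F V, P ≤ W₁ ∧
      Module.finrank F W₁ ≤ Module.finrank F P + 2 ∧
      ∀ x ∈ P, polar Q e x = 0 ∧ polar Q f x = 0 := by
  obtain ⟨e, he, he0, heQ⟩ := exists_singular_mem (Q := Q) W₁ hd
  obtain ⟨f, hf, hfe, -⟩ := h.exists_dual (S := ⊥) he (by simpa using he0)
  refine ⟨e, he, f, hf, he0, heQ, hfe,
    W₁ ⊓ LinearMap.ker ((polarBilin Q e).prod (polarBilin Q f)), inf_le_left, ?_, ?_⟩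
  · have e1 := Submodule.finrank_sup_add_finrank_inf_eq W₁
      (LinearMap.ker ((polarBilin Q e).prod (polarBilin Q f)))
    have e2 := LinearMap.finrank_range_add_finrank_ker ((polarBilin Q e).prod (polarBilin Q f))
    have e3 := Submodule.finrank_le (LinearMap.range ((polarBilin Q e).prod (polarBilin Q f)))
    have e4 := Submodule.finrank_le
      (W₁ ⊔ LinearMap.ker ((polarBilin Q e).prod (polarBilin Q f)))
    simp [Module.finrank_prod] at e3
    omega
  · rintro x ⟨-, hx⟩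
    simpa using hx

theorem hasLine_of_pair {W : Submodule F V} {e b : V} (he : e ∈ W) (hb : b ∈ W) (heQ : Q e = 0)
    (hbQ : Q b = 0) (heb : polar Q e b = 0) (he0 : e ≠ 0) (hbn : ∀ r : F, b ≠ r • e) :
    HasLine Q W := by
  refine ⟨Submodule.span F {e, b}, Submodule.span_le.mpr ?_, fun x hx => ?_, ?_⟩
  · rintro x (rfl | rfl)
    · exact he
    · exact hb
  · obtain ⟨r, t, rfl⟩ := Submodule.mem_span_pair.mp hx
    rw [form_add, form_smul, form_smul, polar_smul_left, polar_smul_right, heQ, hbQ, heb]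
    simp
  · have hli : LinearIndependent F ![e, b] := by
      rw [LinearIndependent.pair_iff]
      intro r t hrt
      by_cases ht : t = 0
      · rw [ht, zero_smul, add_zero] at hrt
        exact ⟨(smul_eq_zero.mp hrt).resolve_right he0, ht⟩
      · refine absurd ?_ (hbn (-(t⁻¹ * r)))
        have := congrArg (fun v => t⁻¹ • v) hrt
        simp only [smul_add, smul_smul, inv_mul_cancel₀ ht, one_smul, smul_zero] at this
        rw [neg_smul]
        exact eq_neg_of_add_eq_zero_right this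
    have := finrank_span_eq_card hli
    rwa [show Set.range ![e, b] = {e, b} by simp [Set.pair_comm], Fintype.card_fin] at this

theorem hasLine_of_five (h : IsOrthPair Q W₁ W₂) (hd : 5 ≤ Module.finrank F W₁) :
    HasLine Q W₁ := by
  obtain ⟨e, he, f, hf, he0, heQ, hfe, P, hPW, hP, hPo⟩ := exists_hyp h (by omega)
  obtain ⟨b, hb, hb0, hbQ⟩ := exists_singular_mem (Q := Q) P (by omega)
  refine hasLine_of_pair he (hPW hb) heQ hbQ (hPo b hb).1 he0 fun r hr => hb0 ?_
  have h1 := (hPo b hb).2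
  rw [hr, polar_smul_right, hfe, smul_eq_mul, mul_one] at h1
  rw [hr, h1, zero_smul]

/-- Two orthogonal four-spaces: one of them contains a totally singular plane. -/
theorem hasLine_or (h : IsOrthPair Q W₁ W₂) (hd : Module.finrank F W₁ = 4)
    (hd' : Module.finrank F W₂ = 4)
    (hmax : ∀ U : Submodule F V, (∀ x ∈ U, Q x = 0) → Module.finrank F U < 4) :
    HasLine Q W₁ ∨ HasLine Q W₂ := by
  by_contra hcon
  rw [not_or] at hcon
  have key : ∀ {A B : Submodule F V}, IsOrthPair Q A B → Module.finrank F A = 4 →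
      ¬ HasLine Q A → ∃ e ∈ A, ∃ f ∈ A, e ≠ 0 ∧ Q e = 0 ∧ polar Q f e = 1 ∧ ∃ P : Submodule F V,
        P ≤ A ∧ Module.finrank F P = 2 ∧ (∀ x ∈ P, Q x = 0 → x = 0) ∧
        ∀ x ∈ P, polar Q e x = 0 ∧ polar Q f x = 0 := by
    intro A B hAB hA hno
    obtain ⟨e, he, f, hf, he0, heQ, hfe, P, hPW, hP, hPo⟩ := exists_hyp hAB (by omega)
    have han : ∀ x ∈ P, Q x = 0 → x = 0 := fun x hx hxQ => by
      by_contra hx0
      refine hno (hasLine_of_pair he (hPW hx) heQ hxQ (hPo x hx).1 he0 fun r hr => hx0 ?_)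
      have h1 := (hPo x hx).2
      rw [hr, polar_smul_right, hfe, smul_eq_mul, mul_one] at h1
      rw [hr, h1, zero_smul]
    refine ⟨e, he, f, hf, he0, heQ, hfe, P, hPW, le_antisymm (by_contra fun hge => ?_) (by omega),
      han, hPo⟩
    obtain ⟨x, hx, hx0, hxQ⟩ := exists_singular_mem (Q := Q) P (by omega)
    exact hx0 (han x hx hxQ)
  obtain ⟨e₁, he₁, f₁, hf₁, -, he₁Q, hfe₁, P₁, hP₁W, hP₁2, hP₁a, hP₁o⟩ := key h hd hcon.1
  obtain ⟨e₂, he₂, f₂, hf₂, -, he₂Q, hfe₂, P₂, hP₂W, hP₂2, hP₂a, hP₂o⟩ := key h.symm hd' hcon.2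
  obtain ⟨e, f, ζ, he, hf, hζ, hef, hval⟩ := exists_normal_basis P₁ hP₁2 hP₁a one_ne_zero
  obtain ⟨e', f', ζ', he', hf', hζ', -, hval'⟩ :=
    exists_normal_basis P₂ hP₂2 hP₂a (neg_ne_zero.mpr (one_ne_zero (α := F)))
  obtain ⟨T, hT⟩ := Forms59.exists_binary_isometry ζ ζ' hζ hζ'
  let L : (Fin 2 → F) × (Fin 2 → F) →ₗ[F] V :=
    ((Fintype.linearCombination F ![e₁, e₂]).coprod
      (Fintype.linearCombination F ![e, f] +
        (Fintype.linearCombination F ![e', f']).comp T.toLinearMap))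
  have hL : ∀ z w, L (z, w) = (z 0 • e₁ + z 1 • e₂) +
      ((w 0 • e + w 1 • f) + (T w 0 • e' + T w 1 • f')) := fun z w => by
    simp [L, Fintype.linearCombination_apply, Fin.sum_univ_two]
  have hsing : ∀ x ∈ LinearMap.range L, Q x = 0 := by
    rintro _ ⟨⟨z, w⟩, rfl⟩
    have hx := hP₁W (add_mem (P₁.smul_mem (w 0) he) (P₁.smul_mem (w 1) hf))
    have hy := hP₂W (add_mem (P₂.smul_mem (T w 0) he') (P₂.smul_mem (T w 1) hf'))
    have p1 := (hP₁o _ (add_mem (P₁.smul_mem (w 0) he) (P₁.smul_mem (w 1) hf))).1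
    have p2 := (hP₂o _ (add_mem (P₂.smul_mem (T w 0) he') (P₂.smul_mem (T w 1) hf'))).1
    have hperp : polar Q (z 0 • e₁ + z 1 • e₂)
        ((w 0 • e + w 1 • f) + (T w 0 • e' + T w 1 • f')) = 0 := by
      rw [polar_add_left, polar_smul_left, polar_smul_left, polar_add_right, p1,
        h.orth e₁ he₁ _ hy, polar_add_right (x := e₂), h.symm.orth e₂ he₂ _ hx, p2]
      simp
    rw [hL, form_add, hperp, form_add, form_smul, form_smul, polar_smul_left, polar_smul_right,
      he₁Q, he₂Q, h.orth e₁ he₁ e₂ he₂, form_add (x := w 0 • e + w 1 • f),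
      h.orth _ hx _ hy, hval, hval', hT]
    simp
  have hinj : Function.Injective L := by
    rw [injective_iff_map_eq_zero]
    rintro ⟨z, w⟩ h0
    rw [hL] at h0
    have hx : z 0 • e₁ + (w 0 • e + w 1 • f) = 0 := by
      refine h.eq_zero (add_mem (W₁.smul_mem _ he₁)
        (hP₁W (add_mem (P₁.smul_mem _ he) (P₁.smul_mem _ hf)))) ?_
      rw [show z 0 • e₁ + (w 0 • e + w 1 • f) = -(z 1 • e₂ + (T w 0 • e' + T w 1 • f')) by
        rw [← sub_eq_zero, ← h0]; module]
      exact neg_mem (add_mem (W₂.smul_mem _ he₂)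
        (hP₂W (add_mem (P₂.smul_mem _ he') (P₂.smul_mem _ hf'))))
    have z0 : z 0 = 0 := by
      have h1 := congrArg (polar Q f₁) hx
      rwa [polar_add_right, polar_smul_right, hfe₁, polar_zero_right,
        (hP₁o _ (add_mem (P₁.smul_mem (w 0) he) (P₁.smul_mem (w 1) hf))).2, smul_eq_mul, mul_one,
        add_zero] at h1
    rw [z0, zero_smul, zero_add] at hx
    obtain ⟨w0, w1⟩ := hef _ _ hx
    have hw : w = 0 := funext fun i => by fin_cases i <;> assumption
    subst hw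
    rw [z0] at h0
    simp at h0
    have he₂0 : e₂ ≠ 0 := fun e0 => by rw [e0] at hfe₂; simp at hfe₂
    refine Prod.ext (funext fun i => ?_) rfl
    fin_cases i
    · exact z0
    · exact h0.resolve_right he₂0
  have := hmax (LinearMap.range L) hsing
  rw [LinearMap.finrank_range_of_inj hinj] at this
  simp [Module.finrank_prod] at this

/-- Only one of two orthogonal subspaces contains a totally singular plane. -/
theorem not_hasLine_both (h : IsOrthPair Q W₁ W₂)
    (hmax : ∀ U : Submodule F V, (∀ x ∈ U, Q x = 0) → Module.finrank F U < 4)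
    (h1 : HasLine Q W₁) : ¬ HasLine Q W₂ := by
  rintro ⟨U', hU', hU'Q, hU'2⟩
  obtain ⟨U, hU, hUQ, hU2⟩ := h1
  have hd : U ⊓ U' = ⊥ := (Submodule.eq_bot_iff _).mpr fun x hx => h.eq_zero (hU hx.1) (hU' hx.2)
  have := hmax (U ⊔ U') fun x hx => by
    obtain ⟨a, ha, b, hb, rfl⟩ := Submodule.mem_sup.mp hx
    rw [form_add, hUQ a ha, hU'Q b hb, h.orth a (hU ha) b (hU' hb), add_zero, add_zero]
  have e := Submodule.finrank_sup_add_finrank_inf_eq U U'
  rw [hd, finrank_bot, hU2, hU'2] at e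
  omega

end Abstract

variable {F : Type*} [Field F] [Fintype F] {Q : QuadraticForm F (Fin 8 → F)}

theorem totallySingular_lt (hnd : PolarND Q) (hminus : ¬ Geo.IsPlusTypeOn ⇑Q ⊤)
    (U : Submodule F (Fin 8 → F)) (hU : ∀ x ∈ U, Q x = 0) : Module.finrank F U < 4 := by
  have h := OrthStab.two_mul_finrank_le hnd hU
  have hfin : Module.finrank F (Fin 8 → F) = 8 := by simp
  by_contra hlt
  exact hminus ⟨U, le_top, hU, by rw [finrank_top]; omega⟩

theorem exists_orth_pair (hnd : PolarND Q) {W : Submodule F (Fin 8 → F)}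
    (hW : Geo.IsNondegenerateOn (polar ⇑Q) W) :
    ∃ W', IsOrthPair Q W W' ∧ Module.finrank F W + Module.finrank F W' = 8 ∧
      Geo.subspaceStabilizer W' ⊓ Geo.omegaGL ⇑Q = Geo.subspaceStabilizer W ⊓ Geo.omegaGL ⇑Q := by
  have hf : Geo.IsBilinearForm (polar ⇑Q) :=
    { add_left := polar_add_left Q
      smul_left := fun c x v => by rw [polar_smul_left, smul_eq_mul]
      add_right := fun v x y => polar_add_right Q v x y
      smul_right := fun c v x => by rw [polar_smul_right, smul_eq_mul] }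
  have hn : Geo.IsNondegenerateForm (polar ⇑Q) := fun v hv => by
    obtain ⟨x, hx⟩ : ∃ x, polar Q v x ≠ 0 := by
      by_contra hc
      simp only [not_exists, not_not] at hc
      exact hv (hnd v hc)
    exact ⟨⟨x, by rwa [polar_comm]⟩, x, hx⟩
  set W' := MaxSub.orth hf W
  have hdis : Disjoint W W' := Submodule.disjoint_def.mpr fun v hv hv' => by
    by_contra hne
    obtain ⟨y, hy, hy'⟩ := (hW v hv hne).2
    exact hy' (MaxSub.mem_orth.mp hv' y hy)
  have hp : IsOrthPair Q W W' := by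
    refine ⟨hnd, ⟨hdis, codisjoint_iff.mpr (eq_top_iff.mpr fun x _ => ?_)⟩, fun x hx y hy => ?_⟩
    · obtain ⟨a, ha, b, hb, rfl⟩ := MaxSub.exists_orth_decomp hf hn hW x
      exact Submodule.add_mem_sup ha hb
    · rw [polar_comm]; exact MaxSub.mem_orth.mp hy x hx
  refine ⟨W', hp, ?_, Subgroup.ext fun g => ?_⟩
  · rw [Submodule.finrank_add_eq_of_isCompl hp.compl]; simp
  · constructor <;> rintro ⟨hs, hg⟩ <;> obtain ⟨g₀, hg₀, rfl⟩ := hg
    · exact ⟨(mem_stab_iff g₀ W).mpr (hp.symm.map_mem₂ _ ((mem_stab_iff g₀ W').mp hs)),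
        g₀, hg₀, rfl⟩
    · exact ⟨(mem_stab_iff g₀ W').mpr (hp.map_mem₂ _ ((mem_stab_iff g₀ W).mp hs)),
        g₀, hg₀, rfl⟩

/-- A non-degenerate subspace, other than a hyperbolic plane over at most three elements or the
orthogonal of one. -/
theorem subspace_isMaximalIn (hnd : PolarND Q) (hminus : ¬ Geo.IsPlusTypeOn ⇑Q ⊤)
    {W : Submodule F (Fin 8 → F)} (hW : Geo.IsNondegenerateOn (polar ⇑Q) W) (hW0 : W ≠ ⊥)
    (hW1 : W ≠ ⊤) (hdim : Module.finrank F W ≠ 6)
    (hex : Nat.card F ≤ 3 → Module.finrank F W = 2 → ∀ x ∈ W, Q x = 0 → x = 0) :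
    Geo.IsMaximalIn (Geo.omegaGL ⇑Q) (Geo.subspaceStabilizer W ⊓ Geo.omegaGL ⇑Q) := by
  obtain ⟨W', hp, hsum, hstab⟩ := exists_orth_pair hnd hW
  have hfin : Module.finrank F (Fin 8 → F) = 8 := by simp
  have hW'0 : W' ≠ ⊥ := fun e => hW1 (by
    have := hp.compl.sup_eq_top
    rwa [e, sup_bot_eq] at this)
  have hmax := totallySingular_lt hnd hminus
  have hmove : ∀ {A B : Submodule F (Fin 8 → F)} (g : orth Q), (∀ x ∈ A, g.1 x ∈ B) →
      Module.finrank F A ≤ Module.finrank F B := fun g hg =>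
    LinearMap.finrank_le_finrank_of_injective (f := g.1.toLinearMap.restrict hg)
      fun a b hab => Subtype.ext (g.1.injective (congrArg Subtype.val hab))
  have h4 : ∀ {A B : Submodule F (Fin 8 → F)}, IsOrthPair Q A B → HasLine Q A →
      Module.finrank F A = 4 → Module.finrank F B = 4 → B ≠ ⊥ →
      Geo.IsMaximalIn (Geo.omegaGL ⇑Q) (Geo.subspaceStabilizer A ⊓ Geo.omegaGL ⇑Q) := by
    intro A B hAB hA hA4 hB4 hB0
    refine isMaximalIn_of_orthPair hAB hA (by omega)
      (mixCond_of_four hAB hA (by omega) (by omega) hmax) hB0 (fun _ h2 => by omega) fun g hg => ?_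
    obtain ⟨U, hUA, hUQ, hU2⟩ := hA
    refine not_hasLine_both hAB hmax ⟨U, hUA, hUQ, hU2⟩ ⟨U.map g.1.toLinearMap, ?_, ?_, ?_⟩
    · rintro _ ⟨x, hx, rfl⟩; exact hg x (hUA hx)
    · rintro _ ⟨x, hx, rfl⟩; show Q (g.1 x) = 0; rw [map_form]; exact hUQ x hx
    · rw [← hU2]; exact LinearEquiv.finrank_map_eq g.1 U
  rcases lt_trichotomy (Module.finrank F W) 4 with hlt | heq | hgt
  · rw [← hstab]
    exact isMaximalIn_of_orthPair hp.symm (hasLine_of_five hp.symm (by omega)) (by omega)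
      (mixCond_of_five hp.symm (by omega)) hW0 hex fun g hg => by
        have := hmove g hg; omega
  · rcases hasLine_or hp heq (by omega) hmax with hl | hl
    · exact h4 hp hl heq (by omega) hW'0
    · rw [← hstab]
      exact h4 hp.symm hl (by omega) heq hW0
  · exact isMaximalIn_of_orthPair hp (hasLine_of_five hp (by omega)) (by omega)
      (mixCond_of_five hp (by omega)) hW'0 (fun _ h2 => by omega) fun g hg => by
        have := hmove g hg; omega

end Cfsg.Agent.Omega8Minus50
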