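import Cfsg.Agent.Omega8Minus50.ExtTwo

/-!
Maximality of the normaliser of a self-adjoint quadratic field in dimension eight (helper50, after
helper98's `ExtFieldMax/Orth`).
-/

set_option autoImplicit false
set_option linter.unusedSectionVars false

namespace Cfsg.Agent.Omega8Minus50

open Matrix Cfsg.Agent.MaxSub Cfsg.Agent.ExtFieldMax Cfsg.Agent.ExtFieldMax.Orth
open Cfsg.Agent.UnitaryOrthogonal (eich eich_apply eich_mul eich_inv conj_eich eichGroup
  eich_mem_eichGroup polar_self_eq)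
open scoped commutatorElement

variable {ι : Type} [Fintype ι] [DecidableEq ι] {F : Type*} [Field F] [Finite F]
variable {Qf : QuadraticForm F (ι → F)} {K : Subalgebra F (Matrix ι ι F)} {r : ℕ}
variable {H : Subgroup (GL ι F)}

section

variable (S : Setting (QuadraticMap.polar ⇑Qf) K r H)
variable (G : Sp.KForm (QuadraticMap.polar ⇑Qf) K)
include S

/-- Two orthogonal isotropic lines would give a totally singular four-space. -/
theorem line_of_max (hr : r = 2)
    (hmax : ∀ U : Submodule F (ι → F), (∀ x ∈ U, Qf x = 0) → Module.finrank F U < 4) :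
    ∀ v w : ι → F, G.phi v v = 0 → G.phi w w = 0 → G.phi v w = 0 → v ≠ 0 → w ∈ kline K v := by
  intro v w hv hw hvw hv0
  letI : Field K := (isField_of S.hK S.one_le).toField
  haveI : Module.Finite F K :=
    Module.finite_of_finrank_pos (by rw [S.hK.finrank_eq]; exact S.hr.pos)
  by_contra hwn
  let L : K × K →ₗ[F] (ι → F) := (ev K v).coprod (ev K w)
  have hinj : Function.Injective L := by
    rw [injective_iff_map_eq_zero]
    rintro ⟨a, b⟩ h0
    have h0' : ev K v a + ev K w b = 0 := h0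
    have hb : b = 0 := by
      by_contra hb
      refine hwn ⟨-(b⁻¹ * a), ?_⟩
      have := congrArg (fun x => ev K x b⁻¹) (eq_neg_of_add_eq_zero_right h0')
      rw [← map_neg, ev_ev S, ev_ev S, inv_mul_cancel₀ hb, ev_one, mul_neg] at this
      exact this.symm
    rw [hb, map_zero, add_zero] at h0'
    exact Prod.ext (ev_injective S.hK hv0 (h0'.trans (map_zero _).symm)) hb
  have := hmax (LinearMap.range L) (by
    rintro _ ⟨⟨a, b⟩, rfl⟩
    refine form_eq_zero S G ?_
    show G.phi (ev K v a + ev K w b) (ev K v a + ev K w b) = 0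
    simp only [phi_add S G, map_add, phi_ev_left S G, phi_ev S.hK (G.klin _), hv, hw, hvw,
      phi_symm S G w v]
    ring)
  rw [LinearMap.finrank_range_of_inj hinj, Module.finrank_prod, S.hK.finrank_eq, hr] at this
  omega

variable {M : Subgroup (UnitaryOrthogonal.orth Qf)}
variable (hM : ∀ g ∈ H, ∃ g' ∈ M, ∀ x, g'.1 x = (g : Matrix ι ι F) *ᵥ x)
variable (hR : ∀ v, G.phi v v = 0 → ∀ p q : K, ∃ g ∈ H, ∀ x,
      (g : Matrix ι ι F) *ᵥ x = x + ev K v (skewMap G.theta p q (G.phi v x)))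
variable (hn : 4 * r ≤ Fintype.card ι)
variable (hn' : ∃ g ∈ H, ∃ (x : ι → F), G.phi x x = 0 ∧ ∃ k : K,
      (g : Matrix ι ι F) *ᵥ ((k : Matrix ι ι F) *ᵥ x) ∉ kline K ((g : Matrix ι ι F) *ᵥ x))
variable (hr : r = 2)
variable (hone : ∀ v w : ι → F, G.phi v v = 0 → G.phi w w = 0 → G.phi v w = 0 → v ≠ 0 →
      w ∈ kline K v)
include hM hR hn hn' hr hone

/-- Fullness of isotropic vectors for degree two. -/
theorem full_of_two {v : ι → F} (hv : G.phi v v = 0) (hv0 : v ≠ 0) :
    OrthStab.Full M v := by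
  letI : Field K := (isField_of S.hK S.one_le).toField
  -- every isotropic vector has the orthogonal of its line
  have hP : ∀ x, G.phi x x = 0 → x ≠ 0 → ∀ z, G.phi x z = 0 → eich Qf x z ∈ M := by
    intro x hx hx0 z hz
    obtain ⟨c, hc, hcz⟩ := exists_perp_zset S G hM hR hn hn' hr hone hx hx0
    obtain ⟨x', hx', hxx'⟩ := exists_partner S G hx hx0
    obtain ⟨d, hd, hdc, hdx⟩ := exists_move_to S G hn hx hx' (by rw [hxx']; exact one_ne_zero)
      (k := 1) one_ne_zero
    obtain ⟨d', hd', hdc', hdx'⟩ := exists_move_to S G hn hx' hx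
      (by rw [phi_symm S G, hxx']; exact one_ne_zero) (inv_ne_zero hc)
    have hmove : ((d' * d : GL ι F) : Matrix ι ι F) *ᵥ ev K x c = x := by
      rw [ev_apply, (hdc'.mul hdc), Units.val_mul, ← mulVec_mulVec, hdx, ev_one, hdx', ← ev_mul,
        mul_inv_cancel₀ hc, ev_one]
    obtain ⟨z0, rfl⟩ : ∃ z0, ((d' * d : GL ι F) : Matrix ι ι F) *ᵥ z0 = z :=
      ⟨_, mulVec_inv_mulVec _ z⟩
    have hz0 : G.phi x z0 = 0 := by
      refine G.sep _ fun k => ?_
      rw [← spec_right S G, ← isom_form S (mul_mem hd' hd),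
        show ev K x k = ev K (ev K x c) (k * c⁻¹) by
          rw [ev_apply (ev K x c), ← ev_mul, mul_assoc, inv_mul_cancel₀ hc, mul_one],
        ev_apply (ev K x c), hdc'.mul hdc, hmove, ← ev_apply, spec_right S G, hz, mul_zero, map_zero]
    have := (zset_map S hM (mul_mem hd' hd) (form_line S G c hx) (hcz z0 hz0)).2
    rwa [hmove] at this
  obtain ⟨v', hv', hvv'⟩ := exists_partner S G hv hv0
  have hu : Qf v = 0 := form_eq_zero S G hv
  intro z hz
  obtain ⟨t, ht⟩ : ∃ t, t = ev K v' (G.phi v z) := ⟨_, rfl⟩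
  have htv : QuadraticMap.polar Qf t v = 0 := by
    rw [ht, ← theta_phi S G, phi_ev S.hK (G.klin v), hvv', mul_one, theta_phi S G, S.symm]
    exact hz
  have hrest : G.phi v (z - t) = 0 := by
    rw [ht, map_sub, phi_ev S.hK (G.klin v), hvv', mul_one, sub_self]
  suffices htM : eich Qf v t ∈ M by
    have hr0 : QuadraticMap.polar Qf v (z - t) = 0 := by
      rw [S.symm, ← theta_phi S G, hrest, map_zero]
    have := mul_mem (hP v hv hv0 (z - t) hrest) htM
    rwa [eich_mul hu hr0 (by rw [S.symm]; exact htv), sub_add_cancel] at this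
  rcases eq_or_ne t 0 with rfl | ht0
  · rw [UnitaryOrthogonal.eich_zero]; exact one_mem M
  have htt : G.phi t t = 0 := by rw [ht]; exact line_iso S G _ hv'
  have hv't : G.phi v' t = 0 := by rw [ht, phi_ev S.hK (G.klin v'), hv', mul_zero]
  -- an isotropic vector orthogonal to both lines
  obtain ⟨a, hva, hv'a, ha⟩ := exists_aniso_perp S G (by omega) hv hv' hvv'
  obtain ⟨b, hb⟩ : ∃ b : ι → F, b ≠ 0 ∧ G.phi v b = 0 ∧ G.phi v' b = 0 := by
    exact ⟨a, fun h0 => ha (by rw [h0, map_zero]), hva, hv'a⟩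
  obtain ⟨z1, hz1v, hz1v', hz1⟩ : ∃ z1, G.phi v z1 = 0 ∧ G.phi v' z1 = 0 ∧
      QuadraticMap.polar Qf b z1 = 1 := by
    obtain ⟨x, hx⟩ : ∃ x, QuadraticMap.polar Qf b x ≠ 0 := by
      by_contra hc; push Not at hc; exact hb.1 (S.nd b hc)
    obtain ⟨x', h1, h2, h3, -⟩ := exists_proj S G hv hv' hvv' x
    refine ⟨(QuadraticMap.polar Qf b x)⁻¹ • x', by rw [map_smul, h1, smul_zero],
      by rw [map_smul, h2, smul_zero], ?_⟩
    have e : QuadraticMap.polar Qf b x' = QuadraticMap.polar Qf b x := by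
      rw [S.symm b x', S.symm b x, ← theta_phi S G, h3 b hb.2.1 hb.2.2, theta_phi S G]
    rw [QuadraticMap.polar_smul_right, smul_eq_mul, e, inv_mul_cancel₀ hx]
  have htb : G.phi t b = 0 := by
    rw [ht, phi_ev_left S G, hb.2.2, mul_zero]
  have htz : G.phi t z1 = 0 := by rw [ht, phi_ev_left S G, hz1v', mul_zero]
  have he := hP t htt ht0 b htb
  have hQt : Qf t = 0 := form_eq_zero S G htt
  have ptb : QuadraticMap.polar Qf t b = 0 := by rw [S.symm, ← theta_phi S G, htb, map_zero]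
  have ptz : QuadraticMap.polar Qf t z1 = 0 := by rw [S.symm, ← theta_phi S G, htz, map_zero]
  have pbv : QuadraticMap.polar Qf b v = 0 := by rw [← theta_phi S G, hb.2.1, map_zero]
  have pvz : QuadraticMap.polar Qf v z1 = 0 := by rw [S.symm, ← theta_phi S G, hz1v, map_zero]
  have hz1M := hP v hv hv0 z1 hz1v
  have h1 := mul_mem (mul_mem he hz1M) (inv_mem he)
  have eu : (eich Qf t b).1 v = v := by
    rw [eich_apply hQt ptb, htv, pbv]; simp
  have ez : (eich Qf t b).1 z1 = z1 - t := by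
    rw [eich_apply hQt ptb, ptz, hz1]; simp
  rw [conj_eich, eu, ez] at h1
  have hd : z1 - t ∈ zset M hu :=
    ⟨by rw [QuadraticMap.polar_sub_right, pvz, S.symm v t, htv, sub_zero], h1⟩
  have := sub_mem (show z1 ∈ zset M hu from ⟨pvz, hz1M⟩) hd
  rw [sub_sub_cancel] at this
  exact this.2

end

variable {f : (ι → F) → (ι → F) → F}

/-- Maximality for a quadratic field in dimension eight. -/
theorem isMaximalIn_orth_two {Qf : QuadraticForm F (ι → F)} (hnd : UnitaryOrthogonal.PolarND Qf)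
    (h2 : (2 : F) ≠ 0) (hK : Geo.IsFieldSubalgebra r K) (hr : r.Prime)
    (hsa : Geo.IsSelfAdjointFor (QuadraticMap.polar ⇑Qf) K) (hr2 : r = 2) (hn8 : Fintype.card ι = 8)
    (hmax : ∀ U : Submodule F (ι → F), (∀ x ∈ U, Qf x = 0) → Module.finrank F U < 4) :
    Geo.IsMaximalIn (Geo.omegaGL ⇑Qf) (Geo.subalgebraNormalizer K ⊓ Geo.omegaGL ⇑Qf) := by
  classical
  have h5 : 5 ≤ Module.finrank F (ι → F) := by
    rw [Module.finrank_fintype_fun_eq_card]; have := hr.two_le; omega
  have hbil : Geo.IsBilinearForm (QuadraticMap.polar ⇑Qf) :=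
    ⟨fun x y z => QuadraticMap.polar_add_left Qf x y z,
      fun c x y => by rw [QuadraticMap.polar_smul_left, smul_eq_mul],
      fun x y z => QuadraticMap.polar_add_right Qf x y z,
      fun c x y => by rw [QuadraticMap.polar_smul_right, smul_eq_mul]⟩
  have hiso : ∀ g ∈ Geo.omegaGL ⇑Qf, g ∈ isom (QuadraticMap.polar ⇑Qf) := by
    rintro _ ⟨g₀, -, rfl⟩ u v
    show QuadraticMap.polar Qf ((g₀.1 : Matrix ι ι F) *ᵥ u) ((g₀.1 : Matrix ι ι F) *ᵥ v) = _
    exact UnitaryOrthogonal.map_polar (OrthStab.toOrth g₀) u v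
  have hsetting : ∀ M : Subgroup (GL ι F),
      Geo.subalgebraNormalizer K ⊓ Geo.omegaGL ⇑Qf ≤ M → M ≤ Geo.omegaGL ⇑Qf →
      Setting (QuadraticMap.polar ⇑Qf) K r M := by
    intro M hle hMΩ
    refine ⟨hK, hr, hbil, fun x y => QuadraticMap.polar_comm Qf x y, fun x hx => hnd x hx, hsa, h2,
      fun a b ha hac hb hbc => hle ⟨mem_normalizer_of_comm
        ((hac.mul hbc).mul hac.inv |>.mul hbc.inv), ?_⟩, fun g hg => hiso g (hMΩ hg)⟩
    have hQ : ∀ g : GL ι F, g ∈ isom (QuadraticMap.polar ⇑Qf) →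
        g ∈ Cfsg.isometryGroup F ⇑Qf := fun g hg u _ => by
      show Qf ((g : Matrix ι ι F) *ᵥ u) = Qf u
      have h1 := UnitaryOrthogonal.polar_self_eq (Q := Qf) ((g : Matrix ι ι F) *ᵥ u)
      have h0 : QuadraticMap.polar (⇑Qf) ((g : Matrix ι ι F) *ᵥ u) ((g : Matrix ι ι F) *ᵥ u) =
          QuadraticMap.polar (⇑Qf) u u := hg u u
      rw [h0, UnitaryOrthogonal.polar_self_eq] at h1
      exact (mul_left_cancel₀ h2 h1).symm
    exact ⟨⁅(⟨a, hQ a ha⟩ : Cfsg.isometryGroup F ⇑Qf), ⟨b, hQ b hb⟩⁆,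
      Subgroup.commutator_mem_commutator (Subgroup.mem_top _) (Subgroup.mem_top _),
      by simp [commutatorElement_def]⟩
  refine isMaximalIn_of inf_le_right ?_ fun M hle hMΩ g hg hgH => ?_
  · -- a root element outside
    have S := hsetting _ inf_le_right le_rfl
    obtain ⟨G⟩ := exists_kForm hbil hK hr
    letI : Field K := (isField_of hK hr.one_lt.le).toField
    obtain ⟨v, hv0, hv⟩ := exists_isotropic S G (by omega)
    obtain ⟨ω, hω⟩ : ∃ ω : K, ∀ s : F, ω ≠ s • 1 := by
      by_contra hc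
      push Not at hc
      have h1 : Module.finrank F K ≤ 1 := finrank_le_one 1 fun k => by
        obtain ⟨s, hs⟩ := hc k
        exact ⟨s, hs.symm⟩
      rw [hK.finrank_eq] at h1
      have := hr.two_le
      omega
    obtain ⟨g₀, hg₀, hgeq⟩ := OrthStab.exists_lift hnd h5
      (eich_mem_eichGroup (Q := Qf) (ev K v 1) (ev K v ω))
    refine ⟨g₀.1, hg₀, fun hmem => ?_⟩
    have hpol : ∀ a b : K, QuadraticMap.polar Qf (ev K v a) (ev K v b) = 0 := fun a b =>
      polar_line S G a b hv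
    have hact : ∀ x, (g₀.1 : Matrix ι ι F) *ᵥ x =
        x + ev K v (skewMap G.theta 1 ω (G.phi v x)) := fun x => by
      have e : ∀ c : K, QuadraticMap.polar Qf (ev K v c) x = G.theta (c * G.phi v x) := fun c => by
        rw [S.symm]; exact spec_right S G v c x
      rw [show (g₀.1 : Matrix ι ι F) *ᵥ x = (eich Qf (ev K v 1) (ev K v ω)).1 x by
        rw [← hgeq]; rfl, eich_apply (form_line S G 1 hv) (hpol 1 ω), e, e, form_line S G ω hv,
        skewMap_apply, map_sub, map_smul, map_smul, zero_mul, zero_smul, sub_zero, add_sub_assoc]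
    set ψ := skewMap G.theta 1 ω with hψ
    -- it commutes with the field
    obtain ⟨x, hx, hx0⟩ := Submodule.exists_mem_ne_zero_of_ne_bot
      (p := LinearMap.ker (G.phi v)) (fun h0 => by
        have h1 := finrank_ker_ge S (G.phi v)
        rw [h0, finrank_bot] at h1
        have := hr.two_le
        omega)
    have hx' : G.phi v x = 0 := hx
    have hcomm : ∀ (k : K) y, ψ (k * y) = k * ψ y := by
      intro k y
      have hk' := (hmem.1 (k : Matrix ι ι F)).mp k.2
      obtain ⟨k', hk'eq⟩ : ∃ k' : K, (k' : Matrix ι ι F) = (g₀.1 : Matrix ι ι F) * k *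
          ((g₀.1⁻¹ : GL ι F) : Matrix ι ι F) := ⟨⟨_, hk'⟩, rfl⟩
      have hc : ∀ y, (g₀.1 : Matrix ι ι F) *ᵥ ((k : Matrix ι ι F) *ᵥ y) =
          (k' : Matrix ι ι F) *ᵥ ((g₀.1 : Matrix ι ι F) *ᵥ y) := fun y => by
        rw [hk'eq, ← mulVec_mulVec _ (_ * _), inv_mulVec_mulVec, mulVec_mulVec]
      have hkk : k' = k := by
        have h1 := hc x
        rw [hact, hact, G.klin, hx', mul_zero, map_zero, map_zero, add_zero, add_zero] at h1
        exact ev_injective hK hx0 h1.symm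
      obtain ⟨z, hz⟩ : ∃ z, G.phi v z = y := by
        obtain ⟨v', -, hvv'⟩ := exists_partner S G hv hv0
        exact ⟨ev K v' y, by rw [phi_ev hK (G.klin v), hvv', mul_one]⟩
      have h1 := hc z
      rw [hkk, hact, hact, G.klin, hz, mulVec_add, add_right_inj, ← ev_mul] at h1
      exact ev_injective hK hv0 h1
    obtain ⟨c, hc⟩ : ∃ c, c = ψ 1 := ⟨_, rfl⟩
    have hψc : ∀ y, ψ y = y * c := fun y => by
      have := hcomm y 1
      rwa [mul_one, ← hc] at this
    have hskew : ∀ a b, G.theta (a * ψ b) = -G.theta (b * ψ a) := fun a b => by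
      simp only [hψ, skewMap_apply, mul_sub, map_sub, mul_smul_comm, map_smul, smul_eq_mul,
        mul_one, one_mul, mul_comm a ω, mul_comm b ω]
      ring
    have hc0 : c = 0 := G.sep _ fun k => by
      have h3 := hskew k 1
      rw [hψc, hψc, one_mul, one_mul] at h3
      have : (2 : F) * G.theta (k * c) = 0 := by linear_combination h3
      exact (mul_eq_zero.mp this).resolve_left h2
    obtain ⟨y, hy⟩ : ∃ y, G.theta y ≠ 0 := by
      by_contra hc'
      push Not at hc'
      exact one_ne_zero (G.sep (1 : K) fun k => hc' _)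
    refine hω (G.theta (ω * y) / G.theta y) ?_
    have h3 := hψc y
    rw [hc0, mul_zero, hψ, skewMap_apply, one_mul, sub_eq_zero] at h3
    rw [div_eq_inv_mul, ← smul_smul, ← h3, smul_smul, inv_mul_cancel₀ hy, one_smul]
  · -- overgroups
    have S := hsetting M hle hMΩ
    obtain ⟨G⟩ := exists_kForm hbil hK hr
    obtain ⟨v, hv0, hv⟩ := exists_isotropic S G (by omega)
    have hn' : ∃ g ∈ M, ∃ (x : ι → F), G.phi x x = 0 ∧ ∃ k : K,
        (g : Matrix ι ι F) *ᵥ ((k : Matrix ι ι F) *ᵥ x) ∉ kline K ((g : Matrix ι ι F) *ᵥ x) := by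
      by_contra hc
      push Not at hc
      exact hgH ⟨mem_normalizer_of_isotropic_lines S G (by omega) hv hv0 hc hg, hMΩ hg⟩
    let M' : Subgroup (UnitaryOrthogonal.orth Qf) :=
      (M.comap (Cfsg.isometryGroup F ⇑Qf).subtype).map
        (UnitaryOrthogonal.isometryGroupEquiv Qf (f := ⇑Qf) (fun _ => rfl)).toMonoidHom
    have hM' : ∀ g ∈ M, ∃ g' ∈ M', ∀ x, g'.1 x = (g : Matrix ι ι F) *ᵥ x := by
      intro g hg
      obtain ⟨g₀, hg₀, rfl⟩ := hMΩ hg
      exact ⟨OrthStab.toOrth g₀, ⟨g₀, hg, rfl⟩, fun x => rfl⟩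
    have hgen : UnitaryOrthogonal.eichGroup Qf ≤ M' := by
      have hn4 : 4 * r ≤ Fintype.card ι := by omega
      have hone := line_of_max S G hr2 hmax
      have hR : ∀ v, G.phi v v = 0 → ∀ p q : K, ∃ g ∈ M, ∀ x,
          (g : Matrix ι ι F) *ᵥ x = x + ev K v (skewMap G.theta p q (G.phi v x)) :=
        fun v hv p q => root_mem S G hn4 hv hn' p q
      exact eichGroup_le_of_full S G hM' hnd h5 hv hv0 fun x hx hx0 =>
        full_of_two S G hM' hR hn4 hn' hr2 hone hx hx0
    rintro _ ⟨g₁, hg₁, rfl⟩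
    obtain ⟨g₂, hg₂, hgg⟩ := hgen ((OrthStab.mem_omega_iff hnd h5 g₁).mp hg₁)
    exact ((UnitaryOrthogonal.isometryGroupEquiv Qf (f := ⇑Qf) (fun _ => rfl)).injective hgg) ▸ hg₂

end Cfsg.Agent.Omega8Minus50
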