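import Cfsg.Agent.ExtFieldMax.Orth.Main

/-!
The normaliser of a self-adjoint quadratic field in dimension eight, with no totally singular
plane over the field (helper50, after helper98's `ExtFieldMax/Orth`).
-/

set_option autoImplicit false
set_option linter.unusedSectionVars false

namespace Cfsg.Agent.Omega8Minus50

open Matrix Cfsg.Agent.MaxSub Cfsg.Agent.ExtFieldMax Cfsg.Agent.ExtFieldMax.Orth
open Cfsg.Agent.UnitaryOrthogonal (eich eich_apply eich_mul eich_inv conj_eich eichGroup
  eich_smul_left)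
open scoped commutatorElement

variable {ι : Type} [Fintype ι] [DecidableEq ι] {F : Type*} [Field F] [Finite F]
variable {K : Subalgebra F (Matrix ι ι F)} {r : ℕ} {H : Subgroup (GL ι F)}

section Setting

variable {f : (ι → F) → (ι → F) → F}
variable (S : Setting f K r H) (G : Sp.KForm f K)
include S

/-- The commutator of two reflections. -/
theorem exists_comm_refl {p q : ι → F} (hp : G.phi p p ≠ 0) (hq : G.phi q q ≠ 0) :
    ∃ g ∈ H, Comm K g ∧ ∀ cp cq : K, cp * G.phi p p = 2 → cq * G.phi q q = 2 →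
      ∀ x₀ x₁ x₂ x₃ x₄ : ι → F, x₁ = x₀ - ev K q (cq * G.phi q x₀) →
        x₂ = x₁ - ev K p (cp * G.phi p x₁) → x₃ = x₂ - ev K q (cq * G.phi q x₂) →
        x₄ = x₃ - ev K p (cp * G.phi p x₃) → (g : Matrix ι ι F) *ᵥ x₀ = x₄ := by
  letI : Field K := (isField_of S.hK S.one_le).toField
  obtain ⟨gp, gp1, gp2, cp, hcp, gpx⟩ := exists_refl S G hp
  obtain ⟨gq, gq1, gq2, cq, hcq, gqx⟩ := exists_refl S G hq
  have invol : ∀ (g : GL ι F) (p : ι → F) (cp : K), cp * G.phi p p = 2 →
      (∀ y, (g : Matrix ι ι F) *ᵥ y = y - ev K p (cp * G.phi p y)) →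
      ∀ y, ((g⁻¹ : GL ι F) : Matrix ι ι F) *ᵥ y = (g : Matrix ι ι F) *ᵥ y := by
    intro g p cp hcp hg y
    refine mulVec_injective g ?_
    show (g : Matrix ι ι F) *ᵥ _ = (g : Matrix ι ι F) *ᵥ _
    rw [mulVec_inv_mulVec, hg y, hg (y - _), map_sub, phi_ev S.hK (G.klin p)]
    rw [show cp * (G.phi p y - cp * G.phi p y * G.phi p p) = -(cp * G.phi p y) by
      linear_combination (-(cp * G.phi p y)) * hcp, map_neg]
    abel
  refine ⟨⁅gp, gq⁆, S.comm_mem gp gq gp1 gp2 gq1 gq2,
    (gp2.mul gq2).mul gp2.inv |>.mul gq2.inv, fun cp' cq' hcp' hcq' x₀ x₁ x₂ x₃ x₄ h1 h2 h3 h4 => ?_⟩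
  obtain rfl : cp' = cp := mul_right_cancel₀ hp (hcp'.trans hcp.symm)
  obtain rfl : cq' = cq := mul_right_cancel₀ hq (hcq'.trans hcq.symm)
  rw [commutatorElement_def, Units.val_mul, Units.val_mul, Units.val_mul, ← mulVec_mulVec,
    ← mulVec_mulVec, ← mulVec_mulVec, invol gq q cq' hcq gqx, invol gp p cp' hcp gpx, gqx x₀, ← h1,
    gpx x₁, ← h2, gqx x₂, ← h3, gpx x₃, ← h4]

theorem ev_sub (x y : ι → F) (k : K) : ev K (x - y) k = ev K x k - ev K y k := by
  rw [ev_apply, ev_apply, ev_apply, mulVec_sub]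

theorem ev_ev (x : ι → F) (a b : K) : ev K (ev K x a) b = ev K x (b * a) := (ev_mul x b a).symm

/-- Elements fixing the orthogonal of a hyperbolic pair scale its first line by every square. -/
theorem exists_scale_fix {v v' : ι → F} (hv : G.phi v v = 0) (hv' : G.phi v' v' = 0)
    (h : G.phi v v' = 1) {t : K} (ht : t ≠ 0) :
    ∃ g ∈ H, Comm K g ∧ (g : Matrix ι ι F) *ᵥ v = ev K v (t * t) ∧
      ∀ x, G.phi v x = 0 → G.phi v' x = 0 → (g : Matrix ι ι F) *ᵥ x = x := by
  letI : Field K := (isField_of S.hK S.one_le).toField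
  have h2 := twoK S
  have h' : G.phi v' v = 1 := by rw [phi_symm S G, h]
  have hqt : ∀ t : K, G.phi (v - ev K v' t) (v - ev K v' t) = -(2 * t) := fun t => by
    simp only [phi_sub S G, map_sub, phi_ev_left S G, phi_ev S.hK (G.klin _), hv, hv', h, h']
    ring
  have hp : G.phi (v - v') (v - v') = -2 := by
    have := hqt 1
    rwa [ev_one, mul_one] at this
  obtain ⟨g, hg, hgc, hgx⟩ := exists_comm_refl S G (p := v - v') (q := v - ev K v' t)
    (by rw [hp]; exact neg_ne_zero.mpr h2)
    (by rw [hqt]; exact neg_ne_zero.mpr (mul_ne_zero h2 ht))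
  have hcp : (-1 : K) * G.phi (v - v') (v - v') = 2 := by rw [hp]; ring
  have hcq : -t⁻¹ * G.phi (v - ev K v' t) (v - ev K v' t) = 2 := by rw [hqt]; field_simp
  have fix : ∀ x, G.phi v x = 0 → G.phi v' x = 0 → G.phi (v - v') x = 0 ∧
      G.phi (v - ev K v' t) x = 0 := fun x hx hx' =>
    ⟨by rw [phi_sub S G, hx, hx', sub_zero],
      by rw [phi_sub S G, phi_ev_left S G, hx, hx', mul_zero, sub_zero]⟩
  refine ⟨g, hg, hgc, ?_, fun x hx hx' => ?_⟩
  · refine hgx _ _ hcp hcq v (ev K v' t) (ev K v t) (ev K v' (t * t)) _ ?_ ?_ ?_ ?_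
    · rw [phi_sub S G, phi_ev_left S G, hv, h', show -t⁻¹ * (0 - t * 1) = 1 by field_simp; ring,
        ev_one]
      abel
    · rw [phi_sub S G, phi_ev S.hK (G.klin v), phi_ev S.hK (G.klin v'), h, hv',
        show (-1 : K) * (t * 1 - t * 0) = -t by ring, map_neg, ev_sub S]
      abel
    · rw [phi_sub S G, phi_ev_left S G, phi_ev S.hK (G.klin v), phi_ev S.hK (G.klin v'), hv, h',
        show -t⁻¹ * (t * 0 - t * (t * 1)) = t by field_simp; ring, ev_sub S, ev_ev S]
      abel
    · rw [phi_sub S G, phi_ev S.hK (G.klin v), phi_ev S.hK (G.klin v'), h, hv',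
        show (-1 : K) * (t * t * 1 - t * t * 0) = -(t * t) by ring, map_neg, ev_sub S]
      abel
  · obtain ⟨e1, e2⟩ := fix x hx hx'
    exact hgx _ _ hcp hcq x x x x x (by simp [e2, -ev_apply]) (by simp [e1, -ev_apply])
      (by simp [e2, -ev_apply]) (by simp [e1, -ev_apply])

omit [Finite F] in
/-- The field is spanned by one and any element off the base field. -/
theorem exists_lin_comb (hr : r = 2) {T : K} (hT : ∀ s : F, T ≠ s • 1) (k : K) :
    ∃ a b : F, k = a • 1 + b • T := by
  haveI : Module.Finite F K :=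
    Module.finite_of_finrank_pos (by rw [S.hK.finrank_eq]; exact S.hr.pos)
  have h1 : (1 : K) ≠ 0 := fun e => by
    haveI : Nontrivial K := (isField_of S.hK S.one_le).nontrivial
    exact one_ne_zero e
  have hli : LinearIndependent F ![(1 : K), T] :=
    LinearIndependent.pair_iff.mpr fun s t hst => by
      by_cases ht : t = 0
      · rw [ht, zero_smul, add_zero] at hst
        exact ⟨(smul_eq_zero.mp hst).resolve_right h1, ht⟩
      · refine absurd ?_ (hT (-(t⁻¹ * s)))
        have := congrArg (fun v => t⁻¹ • v) hst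
        simp only [smul_add, smul_smul, inv_mul_cancel₀ ht, one_smul, smul_zero] at this
        rw [neg_smul]
        exact eq_neg_of_add_eq_zero_right this
  have htop := hli.span_eq_top_of_card_eq_finrank' (by rw [S.hK.finrank_eq, hr]; simp)
  have hk : k ∈ Submodule.span F (Set.range ![(1 : K), T]) := by rw [htop]; trivial
  obtain ⟨c, hc⟩ := (Submodule.mem_span_range_iff_exists_fun F).mp hk
  exact ⟨c 0, c 1, by rw [← hc]; simp [Fin.sum_univ_two]⟩

end Setting

/-- A rotation trace off the base field. -/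
theorem exists_trace {L : Type*} [Field L] [Fintype L] [Algebra F L]
    (h2 : (2 : L) ≠ 0) (hcard : Nat.card L = Nat.card F ^ 2) {α β : L} (hα : α ≠ 0) (hβ : β ≠ 0)
    (han : ∀ s : L, α + β * s * s ≠ 0) :
    ∃ s : L, s ≠ 0 ∧ ∀ c : F, ((α - β * s * s) / (α + β * s * s)) ^ 2 ≠ algebraMap F L c := by
  classical
  letI : Fintype F := Fintype.ofFinite F
  by_contra hcon
  simp only [not_exists, not_and, not_forall, not_not] at hcon
  have h2F : (2 : F) ≠ 0 := fun e => h2 (by rw [← map_ofNat (algebraMap F L) 2, e, map_zero])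
  set q := Fintype.card F with hq
  have hcL : Fintype.card L = q ^ 2 := by
    rw [← Nat.card_eq_fintype_card, hcard, Nat.card_eq_fintype_card]
  have hqo : q % 2 = 1 := FiniteField.odd_card_of_char_ne_two fun e => h2F (by
    haveI : CharP F (ringChar F) := ringChar.charP F
    have := CharP.cast_eq_zero F (ringChar F)
    rw [e] at this
    exact_mod_cast this)
  -- `α - β s²` does not vanish either
  obtain ⟨i, hi⟩ : IsSquare (-1 : L) := by
    rw [FiniteField.isSquare_neg_one_iff, hcL, Nat.pow_mod]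
    have h4 : q % 4 = 1 ∨ q % 4 = 3 := by omega
    rcases h4 with h4 | h4 <;> simp [h4]
  have hne : ∀ s : L, α - β * s * s ≠ 0 := fun s e => han (i * s) (by
    linear_combination e - β * s * s * hi)
  let A : L → L := fun s => (α - β * s * s) / (α + β * s * s)
  set S₀ := (Finset.univ : Finset L).erase 0
  have hA : ∀ s s' : L, A s = A s' → s' = s ∨ s' = -s := by
    intro s s' e
    have e' := (div_eq_div_iff (han s) (han s')).mp e
    have h3 : (2 * α * β) * ((s' - s) * (s' + s)) = 0 := by linear_combination e'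
    rcases mul_eq_zero.mp
      ((mul_eq_zero.mp h3).resolve_left (mul_ne_zero (mul_ne_zero h2 hα) hβ)) with h | h
    · exact Or.inl (sub_eq_zero.mp h)
    · exact Or.inr (eq_neg_of_add_eq_zero_left h)
  have c1 : S₀.card ≤ 2 * (S₀.image A).card :=
    Finset.card_le_mul_card_image S₀ 2 fun x hx => by
      obtain ⟨s₀, hs₀, rfl⟩ := Finset.mem_image.mp hx
      refine (Finset.card_le_card (t := {s₀, -s₀}) fun s hs => ?_).trans Finset.card_le_two
      rcases hA s₀ s (Finset.mem_filter.mp hs).2.symm with e | e <;> simp [e]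
  have c2 : (S₀.image A).card ≤ 2 * ((S₀.image A).image fun x => x ^ 2).card :=
    Finset.card_le_mul_card_image _ 2 fun y hy => by
      obtain ⟨x₀, -, rfl⟩ := Finset.mem_image.mp hy
      refine (Finset.card_le_card (t := {x₀, -x₀}) fun x hx => ?_).trans Finset.card_le_two
      rcases sq_eq_sq_iff_eq_or_eq_neg.mp (Finset.mem_filter.mp hx).2 with e | e <;> simp [e]
  have c3 : ((S₀.image A).image fun x => x ^ 2) ⊆
      (((Finset.univ : Finset F).erase 0).erase 1).image (algebraMap F L) := by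
    intro y hy
    simp only [Finset.mem_image, S₀, Finset.mem_erase, Finset.mem_univ, and_true] at hy ⊢
    obtain ⟨x, ⟨s, hs, rfl⟩, rfl⟩ := hy
    obtain ⟨c, hc⟩ := hcon s hs
    refine ⟨c, ⟨fun e => ?_, fun e => ?_⟩, hc.symm⟩
    · rw [e, map_one, div_pow, div_eq_one_iff_eq (pow_ne_zero _ (han s))] at hc
      have h4 : (2 * 2 * α * β) * (s * s) = 0 := by linear_combination -hc
      rcases mul_eq_zero.mp h4 with h | h
      · exact mul_ne_zero (mul_ne_zero (mul_ne_zero h2 h2) hα) hβ h
      · exact hs (mul_self_eq_zero.mp h)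
    · rw [e, map_zero, div_pow, div_eq_zero_iff] at hc
      rcases hc with h | h
      · exact hne s (pow_eq_zero_iff two_ne_zero |>.mp h)
      · exact han s (pow_eq_zero_iff two_ne_zero |>.mp h)
  have c4 := (Finset.card_le_card c3).trans Finset.card_image_le
  have c5 : (((Finset.univ : Finset F).erase 0).erase 1).card = q - 2 := by
    rw [Finset.card_erase_of_mem (by simp), Finset.card_erase_of_mem (by simp), Finset.card_univ]
    omega
  have c6 : S₀.card = q ^ 2 - 1 := by
    rw [Finset.card_erase_of_mem (by simp), Finset.card_univ, hcL]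
  rw [c5] at c4
  rw [c6] at c1
  have hq2 : 2 ≤ q := Fintype.one_lt_card
  have : q ^ 2 - 1 ≤ 4 * (q - 2) := by omega
  obtain ⟨m, hm⟩ : ∃ m, q = m + 2 := ⟨q - 2, by omega⟩
  rw [hm] at this
  simp at this
  nlinarith [this]

section Form

variable {Qf : QuadraticForm F (ι → F)}
variable (S : Setting (QuadraticMap.polar ⇑Qf) K r H)
variable (G : Sp.KForm (QuadraticMap.polar ⇑Qf) K)
variable {M : Subgroup (UnitaryOrthogonal.orth Qf)}
variable (hM : ∀ g ∈ H, ∃ g' ∈ M, ∀ x, g'.1 x = (g : Matrix ι ι F) *ᵥ x)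
variable (hR : ∀ v, G.phi v v = 0 → ∀ p q : K, ∃ g ∈ H, ∀ x,
      (g : Matrix ι ι F) *ᵥ x = x + ev K v (skewMap G.theta p q (G.phi v x)))
variable (hn : 4 * r ≤ Fintype.card ι)
variable (hn' : ∃ g ∈ H, ∃ (x : ι → F), G.phi x x = 0 ∧ ∃ k : K,
      (g : Matrix ι ι F) *ᵥ ((k : Matrix ι ι F) *ᵥ x) ∉ kline K ((g : Matrix ι ι F) *ᵥ x))
variable (hr : r = 2)
variable (hone : ∀ v w : ι → F, G.phi v v = 0 → G.phi w w = 0 → G.phi v w = 0 → v ≠ 0 →
      w ∈ kline K v)
include S hM hR hn hn' hr hone

/-- An isotropic vector and the orthogonal of its line. -/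
theorem exists_perp_zset {v : ι → F} (hv : G.phi v v = 0) (hv0 : v ≠ 0) :
    ∃ c : K, c ≠ 0 ∧ ∀ z, G.phi v z = 0 → z ∈ zset M (form_line S G c hv) := by
  classical
  letI : Field K := (isField_of S.hK S.one_le).toField
  haveI : Module.Finite F K :=
    Module.finite_of_finrank_pos (by rw [S.hK.finrank_eq]; exact S.hr.pos)
  haveI : Finite K := Module.finite_of_finite F
  letI : Fintype K := Fintype.ofFinite K
  have h2 := twoK S
  obtain ⟨h, hh, l, c, hl, hlL, hc, hcL, hLv, -⟩ := exists_orth_image S G hn hv hv0 hn'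
  refine ⟨c, hc, ?_⟩
  set Z := zset M (form_line S G c hv)
  have hlZ : l ∈ Z := by
    obtain ⟨p, hp⟩ := mem_lineImg.mp hcL
    obtain ⟨q, hq⟩ := mem_lineImg.mp hl
    obtain ⟨h', hh', hhh⟩ := hM h hh
    refine ⟨by rw [← hp, ← hq, isom_form S hh]; exact polar_line S G p q hv, ?_⟩
    rw [← hp, ← hq, ← hhh, ← hhh, ← conj_eich]
    exact mul_mem (mul_mem hh' (eich_line_mem S G hM hR hv p q)) (inv_mem hh')
  have hLZ : ∀ k : K, ev K v k ∈ Z := fun k =>
    ⟨polar_line S G c k hv, eich_line_mem S G hM hR hv c k⟩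
  obtain ⟨v', hv', hvv'⟩ := exists_partner S G hv hv0
  obtain ⟨a, ha1, ha2, -, hla⟩ := exists_proj S G hv hv' hvv' l
  rw [hLv l hl, map_zero, add_zero] at hla
  have haZ : a ∈ Z := by
    rw [show a = l - ev K v (G.phi v' l) by rw [eq_sub_iff_add_eq]; exact hla.symm]
    exact sub_mem hlZ (hLZ _)
  have hzero : ∀ w, G.phi v w = 0 → G.phi v' w = 0 → G.phi w w = 0 → w = 0 := by
    intro w w1 w2 w3
    obtain ⟨μ, rfl⟩ := hone v w hv w3 w1 hv0
    rw [phi_ev S.hK (G.klin v'), phi_symm S G v' v, hvv', mul_one] at w2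
    rw [w2, map_zero]
  have ha0 : G.phi a a ≠ 0 := fun e => hlL (by
    rw [hla, hzero a ha1 ha2 e, zero_add]; exact ⟨_, rfl⟩)
  obtain ⟨b, hb1, hb2, hab, hb0⟩ := exists_aniso_perp_perp S G hn hv hv' hvv' ha0 ha1 ha2
  have hba : G.phi b a = 0 := by rw [phi_symm S G, hab]
  have norm_ab : ∀ s t : K, G.phi (ev K a s + ev K b t) (ev K a s + ev K b t) =
      s * s * G.phi a a + t * t * G.phi b b := fun s t => by
    simp only [phi_add S G, map_add, phi_ev_left S G, phi_ev S.hK (G.klin _), hab, hba]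
    ring
  -- the plane orthogonal to the pair
  have hbasis : ∀ z, G.phi v z = 0 → G.phi v' z = 0 →
      z = ev K a (G.phi a z * (G.phi a a)⁻¹) + ev K b (G.phi b z * (G.phi b b)⁻¹) := by
    intro z z1 z2
    obtain ⟨y, hy⟩ : ∃ y, y = z - ev K a (G.phi a z * (G.phi a a)⁻¹) -
        ev K b (G.phi b z * (G.phi b b)⁻¹) := ⟨_, rfl⟩
    suffices hy0 : y = 0 by
      rw [hy, sub_sub, sub_eq_zero] at hy0; exact hy0
    have y1 : G.phi v y = 0 := by
      rw [hy, map_sub, map_sub, phi_ev S.hK (G.klin v), phi_ev S.hK (G.klin v), z1, ha1, hb1]; ring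
    have y2 : G.phi v' y = 0 := by
      rw [hy, map_sub, map_sub, phi_ev S.hK (G.klin v'), phi_ev S.hK (G.klin v'), z2, ha2, hb2]
      ring
    have y3 : G.phi a y = 0 := by
      rw [hy, map_sub, map_sub, phi_ev S.hK (G.klin a), phi_ev S.hK (G.klin a), hab]
      field_simp; ring
    have y4 : G.phi b y = 0 := by
      rw [hy, map_sub, map_sub, phi_ev S.hK (G.klin b), phi_ev S.hK (G.klin b), hba]
      field_simp; ring
    refine hzero y y1 y2 ?_
    have hodd : Fintype.card K % 2 = 1 :=
      FiniteField.odd_card_of_char_ne_two fun e => h2 (by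
        haveI : CharP K (ringChar K) := ringChar.charP K
        have := CharP.cast_eq_zero K (ringChar K)
        rw [e] at this
        exact_mod_cast this)
    obtain ⟨s, t, hst⟩ := FiniteField.exists_root_sum_quadratic
      (f := Polynomial.C (G.phi a a) * Polynomial.X ^ 2)
      (g := Polynomial.C (G.phi b b) * Polynomial.X ^ 2 - Polynomial.C (-G.phi y y))
      (by rw [Polynomial.degree_C_mul_X_pow _ ha0]; rfl)
      (by
        rw [Polynomial.degree_sub_eq_left_of_degree_lt] <;>
          rw [Polynomial.degree_C_mul_X_pow _ hb0]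
        · rfl
        · exact lt_of_le_of_lt Polynomial.degree_C_le (by decide))
      hodd
    simp only [Polynomial.eval_sub, Polynomial.eval_mul, Polynomial.eval_C, Polynomial.eval_pow,
      Polynomial.eval_X] at hst
    have hx : y + (ev K a s + ev K b t) = 0 := by
      refine hzero _ ?_ ?_ ?_
      · simp only [map_add, phi_ev S.hK (G.klin v), y1, ha1, hb1]; ring
      · simp only [map_add, phi_ev S.hK (G.klin v'), y2, ha2, hb2]; ring
      · rw [norm_add S G, norm_ab, map_add, phi_ev S.hK (G.klin y), phi_ev S.hK (G.klin y),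
          phi_symm S G y a, phi_symm S G y b, y3, y4]
        linear_combination hst
    have := congrArg (G.phi y) hx
    rwa [map_add, map_add, phi_ev S.hK (G.klin y), phi_ev S.hK (G.klin y), phi_symm S G y a,
      phi_symm S G y b, y3, y4, mul_zero, mul_zero, add_zero, add_zero, map_zero] at this
  -- elements fixing the point act on `Z`
  have hact : ∀ d ∈ H, (d : Matrix ι ι F) *ᵥ ev K v c = ev K v c →
      ∀ z ∈ Z, (d : Matrix ι ι F) *ᵥ z ∈ Z := by
    intro d hd hfix z hz
    have h1 := zset_map S hM hd (form_line S G c hv) hz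
    rw [hfix] at h1
    exact h1
  -- scalars of the base field
  have hscal : ∀ (e : F) z, G.phi v z = 0 → G.phi v' z = 0 → z ∈ Z → e • z ∈ Z := by
    intro e z z1 z2 hz
    by_cases he : e = 0
    · rw [he, zero_smul]; exact zero_mem Z
    obtain ⟨t, ht⟩ : IsSquare (algebraMap F K e) := by
      rw [← quadraticChar_one_iff_isSquare ((map_ne_zero _).mpr he),
        quadraticChar_eq_pow_of_char_ne_two]
      · letI : Fintype F := Fintype.ofFinite F
        have hcK : Fintype.card K = Fintype.card F ^ 2 := by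
          rw [← Nat.card_eq_fintype_card, ← Nat.card_eq_fintype_card,
            Module.natCard_eq_pow_finrank (K := F) (V := K), S.hK.finrank_eq, hr]
        have hqo : Fintype.card F % 2 = 1 :=
          FiniteField.odd_card_of_char_ne_two fun e => S.two (by
            haveI : CharP F (ringChar F) := ringChar.charP F
            have := CharP.cast_eq_zero F (ringChar F)
            rw [e] at this
            exact_mod_cast this)
        rw [if_pos]
        obtain ⟨m, hm⟩ : ∃ m, Fintype.card F = 2 * m + 1 := ⟨Fintype.card F / 2, by omega⟩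
        have : Fintype.card K / 2 = (Fintype.card F - 1) * (m + 1) := by
          rw [hcK, hm]
          have : (2 * m + 1) ^ 2 = 2 * (2 * m * (m + 1)) + 1 := by ring
          rw [this]
          simp
          omega
        rw [this, pow_mul, ← map_pow, FiniteField.pow_card_sub_one_eq_one e he, map_one, one_pow]
      · exact fun e => h2 (by
          haveI : CharP K (ringChar K) := ringChar.charP K
          have := CharP.cast_eq_zero K (ringChar K)
          rw [e] at this
          exact_mod_cast this)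
      · exact (map_ne_zero _).mpr he
    have ht0 : t ≠ 0 := fun e' => he (by
      rw [e', mul_zero] at ht; exact (map_eq_zero _).mp ht)
    obtain ⟨g, hg, hgc, hgv, hgfix⟩ := exists_scale_fix S G hv hv' hvv' ht0
    have h1 := zset_map S hM hg (form_line S G c hv) hz
    have e1 : (g : Matrix ι ι F) *ᵥ ev K v c = e • ev K v c := by
      rw [ev_apply v c, hgc, hgv, ← ht, ← ev_mul, mul_comm, ← Algebra.smul_def, map_smul,
        ← ev_apply]
    rw [e1, hgfix z z1 z2] at h1
    refine ⟨by rw [QuadraticMap.polar_smul_right, hz.1, smul_zero], ?_⟩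
    rw [← eich_smul_left (form_line S G c hv) hz.1]
    exact h1.2
  -- a rotation with trace off the base field
  have hcK : Nat.card K = Nat.card F ^ 2 := by
    rw [Module.natCard_eq_pow_finrank (K := F) (V := K), S.hK.finrank_eq, hr]
  obtain ⟨s, hs, htr⟩ := exists_trace (F := F) h2 hcK ha0 hb0 (fun s e => ha0 (by
    have h0 := hzero (ev K a 1 + ev K b s)
      (by rw [map_add, phi_ev S.hK (G.klin v), phi_ev S.hK (G.klin v), ha1, hb1]; ring)
      (by rw [map_add, phi_ev S.hK (G.klin v'), phi_ev S.hK (G.klin v'), ha2, hb2]; ring)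
      (by rw [norm_ab]; linear_combination e)
    have := congrArg (G.phi a) h0
    rwa [map_add, phi_ev S.hK (G.klin a), phi_ev S.hK (G.klin a), hab, map_zero, one_mul,
      mul_zero, add_zero] at this))
  obtain ⟨N, hN⟩ : ∃ N, N = G.phi a a + G.phi b b * s * s := ⟨_, rfl⟩
  have hN0 : N ≠ 0 := fun e => by
    refine htr 0 ?_
    rw [← hN, e]; simp
  obtain ⟨A, hA⟩ : ∃ A, A = (G.phi a a - G.phi b b * s * s) / N := ⟨_, rfl⟩
  rw [← hN, ← hA] at htr
  obtain ⟨q, hqd⟩ : ∃ q, q = ev K a 1 + ev K b s := ⟨_, rfl⟩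
  have hqq : G.phi q q = N := by rw [hqd, norm_ab, hN]; ring
  obtain ⟨g, hg, hgc, hgx⟩ := exists_comm_refl S G (p := a) (q := q) ha0 (by rw [hqq]; exact hN0)
  obtain ⟨g', hg', hgc', hgx'⟩ := exists_comm_refl S G (p := q) (q := a) (by rw [hqq]; exact hN0) ha0
  have hca : (2 * (G.phi a a)⁻¹) * G.phi a a = 2 := by field_simp
  have hcq : (2 * N⁻¹) * G.phi q q = 2 := by rw [hqq]; field_simp
  have hqv : G.phi q v = 0 := by
    rw [hqd, phi_add S G, phi_ev_left S G, phi_ev_left S G, phi_symm S G a v,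
      phi_symm S G b v, ha1, hb1]
    ring
  have hav : G.phi a v = 0 := by rw [phi_symm S G, ha1]
  have hgfix : (g : Matrix ι ι F) *ᵥ ev K v c = ev K v c := by
    rw [ev_apply v c, hgc, hgx _ _ hca hcq v v v v v (by simp [hqv, -ev_apply]) (by simp [hav, -ev_apply])
      (by simp [hqv, -ev_apply]) (by simp [hav, -ev_apply])]
  have hqa : ∀ x y : K, G.phi q (ev K a x + ev K b y) = x * G.phi a a + y * s * G.phi b b :=
    fun x y => by
      simp only [hqd, phi_add S G, map_add, phi_ev_left S G, phi_ev S.hK (G.klin _), hab, hba]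
      ring
  have haa : ∀ x y : K, G.phi a (ev K a x + ev K b y) = x * G.phi a a := fun x y => by
    simp only [map_add, phi_ev S.hK (G.klin _), hab]; ring
  have hq' : ∀ k : K, ev K q k = ev K a k + ev K b (k * s) := fun k => by
    rw [hqd, ev_apply _ k, mulVec_add, ← ev_mul, ← ev_mul, mul_one]
  have hev2 : ∀ x y x' y' : K, ev K a x + ev K b y - (ev K a x' + ev K b y') =
      ev K a (x - x') + ev K b (y - y') := fun x y x' y' => by rw [map_sub, map_sub]; abel
  obtain ⟨B, hB⟩ : ∃ B, B = -(2 * (G.phi a a * N⁻¹) * s) := ⟨_, rfl⟩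
  obtain ⟨D, hD⟩ : ∃ D, D = 2 * G.phi b b * s * N⁻¹ := ⟨_, rfl⟩
  have hrq : ∀ x y : K, (ev K a x + ev K b y) -
      ev K q (2 * N⁻¹ * G.phi q (ev K a x + ev K b y)) =
      ev K a (-(A * x + D * y)) + ev K b (B * x + A * y) := fun x y => by
    rw [hq', hqa, hev2]
    congr 2 <;> simp only [hA, hB, hD] <;> field_simp <;> rw [hN] <;> ring
  have hra : ∀ x y : K, (ev K a x + ev K b y) -
      ev K a (2 * (G.phi a a)⁻¹ * G.phi a (ev K a x + ev K b y)) =
      ev K a (-x) + ev K b y := fun x y => by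
    rw [haa, show ev K a x + ev K b y - ev K a (2 * (G.phi a a)⁻¹ * (x * G.phi a a)) =
      ev K a (x - 2 * (G.phi a a)⁻¹ * (x * G.phi a a)) + ev K b y by rw [map_sub]; abel]
    congr 2
    field_simp
    ring
  -- the two rotations of `a`
  have ea : a = ev K a 1 + ev K b 0 := by rw [ev_one, map_zero, add_zero]
  have hga : (g : Matrix ι ι F) *ᵥ a = ev K a (A * A + D * B) + ev K b (2 * A * B) := by
    conv_lhs => rw [ea]
    refine hgx _ _ hca hcq _ _ _ _ _ (hrq 1 0).symm (hra _ _).symm (hrq _ _).symm ?_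
    rw [hra]
    congr 1 <;> congr 1 <;> ring
  have hga' : (g' : Matrix ι ι F) *ᵥ a = ev K a (A * A + D * B) + ev K b (-(2 * A * B)) := by
    conv_lhs => rw [ea]
    refine hgx' _ _ hcq hca _ _ _ _ _ (hra 1 0).symm (hrq _ _).symm (hra _ _).symm ?_
    rw [hrq]
    congr 1 <;> congr 1 <;> ring
  have hgfix' : (g' : Matrix ι ι F) *ᵥ ev K v c = ev K v c := by
    rw [ev_apply v c, hgc', hgx' _ _ hcq hca v v v v v (by simp [hav, -ev_apply]) (by simp [hqv, -ev_apply])
      (by simp [hav, -ev_apply]) (by simp [hqv, -ev_apply])]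
  have hsum : ev K a (2 * (A * A + D * B)) ∈ Z := by
    have h1 := add_mem (hact g hg hgfix a haZ) (hact g' hg' hgfix' a haZ)
    rw [hga, hga'] at h1
    convert h1 using 1
    rw [two_mul (A * A + D * B), map_add, map_neg]
    abel
  have hAD : A * A + D * B = 2 * (A * A) - 1 := by
    rw [hA, hB, hD]; field_simp; rw [hN]; ring
  have haline : ∀ k : K, ev K a k ∈ Z := by
    intro k
    obtain ⟨p, q', hpq⟩ := exists_lin_comb S hr (T := 2 * (A * A + D * B)) (fun e he => by
      refine htr ((e / 2 + 1) / 2) ?_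
      rw [hAD] at he
      rw [map_div₀, map_add, map_div₀, map_one, map_ofNat, Algebra.algebraMap_eq_smul_one, ← he]
      field_simp
      ring) k
    rw [hpq, map_add, map_smul, map_smul, ev_one]
    refine add_mem (hscal p a ha1 ha2 haZ) (hscal q' _ ?_ ?_ hsum)
    · rw [phi_ev S.hK (G.klin v), ha1, mul_zero]
    · rw [phi_ev S.hK (G.klin v'), ha2, mul_zero]
  have hAB : 2 * A * B ≠ 0 := by
    refine mul_ne_zero (mul_ne_zero h2 fun e => htr 0 (by rw [e]; simp)) ?_
    rw [hB]
    exact neg_ne_zero.mpr (mul_ne_zero (mul_ne_zero h2 (mul_ne_zero ha0 (inv_ne_zero hN0))) hs)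
  have hbline : ∀ k : K, ev K b k ∈ Z := by
    intro k
    have h1 := hact g hg hgfix _ (haline (k * (2 * A * B)⁻¹))
    rw [ev_apply a, hgc, hga, mulVec_add, ← ev_mul, ← ev_mul] at h1
    have h3 := sub_mem h1 (haline (k * (2 * A * B)⁻¹ * (A * A + D * B)))
    rwa [add_sub_cancel_left, mul_assoc, inv_mul_cancel₀ hAB, mul_one] at h3
  intro z hz
  obtain ⟨z', h1, h3, -, he⟩ := exists_proj S G hv hv' hvv' z
  rw [he, hz, map_zero, add_zero, hbasis z' h1 h3]
  exact add_mem (add_mem (haline _) (hbline _)) (hLZ _)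

end Form

end Cfsg.Agent.Omega8Minus50
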